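import Groth.Agent.SiteBase.RpushD.Gen
import Groth.Agent.DescCrit.Crit
import Groth.Prelude.Def_EtBCD

/-!
# The derived inverse image is left adjoint to the derived direct image
-/

set_option autoImplicit false
set_option linter.style.haveILetI false
universe u

open CategoryTheory CategoryTheory.Limits AlgebraicGeometry

attribute [local instance] HasDerivedCategory.standard

namespace Groth.Agent.AcycBase

set_option backward.isDefEq.respectTransparency.types false

/-- an adjunction between derived inverse and direct images -/
theorem nonempty_pullD_adj {X Y : Scheme.{u}} (f : X ⟶ Y) [PreservesFiniteLimits (EtCoh.pull f)]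
    [DCoh.HasRpushEt X f] : Nonempty (EtBC.pullD f ⊣ DCoh.RpushEt X f) := by
  haveI : (EtCoh.push f).Additive := (EtCoh.pullPushAdj f).right_adjoint_additive
  haveI : (EtCoh.pull f).Additive := (EtCoh.pullPushAdj f).left_adjoint_additive
  haveI : PreservesFiniteColimits (EtCoh.pull f) :=
    haveI : PreservesColimitsOfSize.{0, 0} (EtCoh.pull f) := (EtCoh.pullPushAdj f).leftAdjoint_preservesColimits
    PreservesColimitsOfSize.preservesFiniteColimits _
  exact SiteBase.RpushD.nonempty_adj (A := EtCoh.Ab X) (B := EtCoh.Ab Y) (EtCoh.push f) (EtCoh.pullPushAdj f)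

end Groth.Agent.AcycBase
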