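import Groth.Agent.EtFound.EdgeVanish

/-!
# Edge maps under vanishing of the extension groups of higher direct images
-/

universe w v u

open CategoryTheory CategoryTheory.Limits CategoryTheory.Abelian

namespace Groth.Agent.AcycBase

open Groth.Agent.EtFound

set_option autoImplicit false
set_option linter.style.haveILetI false
set_option backward.isDefEq.respectTransparency.types false
set_option maxHeartbeats 400000

variable {A : Type u} [Category.{v} A] [Abelian A] [HasExt.{w} A] [EnoughInjectives A]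
  {B : Type*} [Category* B] [Abelian B] [HasExt.{w} B] [EnoughInjectives B]
  {L : B ⥤ A} {R : A ⥤ B} (adj : L ⊣ R) [L.Additive] [PreservesFiniteLimits L] [PreservesFiniteColimits L]
  [R.Additive] [PreservesFiniteLimits R]

/-- all extension groups of `P` by `M` vanish -/
def AllExtZero (P M : B) : Prop := ∀ q : ℕ, Subsingleton (Ext.{w} P M q)

omit [EnoughInjectives B] in
theorem allExtZero_of_iso {P M N : B} (e : M ≅ N) (h : AllExtZero.{w} P M) : AllExtZero.{w} P N := fun q =>
  haveI := h q
  (postcomp_bijective e.hom q).2.subsingleton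

omit [EnoughInjectives B] in
/-- postcomposition with the first map of a short exact sequence whose cokernel has no extensions -/
theorem postcomp_bijective_of_allExtZero {C : ShortComplex B} (hC : C.ShortExact) (P : B)
    (h : AllExtZero.{w} P C.X₃) (q : ℕ) :
    Function.Bijective (fun x : Ext P C.X₁ q => x.comp (Ext.mk₀ C.f) (add_zero q)) := by
  refine ⟨fun x y hxy => ?_, fun y => ?_⟩
  · rw [← sub_eq_zero]
    have h0 : (x - y).comp (Ext.mk₀ C.f) (add_zero q) = 0 := by
      rw [sub_eq_add_neg, Ext.add_comp, Ext.neg_comp, ← sub_eq_add_neg, sub_eq_zero]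
      exact hxy
    obtain _ | p := q
    · haveI := hC.mono_f
      obtain ⟨g, hg⟩ := (Ext.mk₀_bijective _ _).2 (x - y)
      rw [← hg, Ext.mk₀_comp_mk₀, ← Ext.mk₀_zero] at h0
      have : g ≫ C.f = 0 := (Ext.mk₀_bijective _ _).1 h0
      rw [← hg, (cancel_mono C.f).1 (this.trans zero_comp.symm), Ext.mk₀_zero]
    · obtain ⟨z, hz⟩ := Ext.covariant_sequence_exact₁ P hC (x - y) h0 (rfl : p + 1 = p + 1)
      rw [← hz, (h p).elim z 0, Ext.zero_comp]
  · exact Ext.covariant_sequence_exact₂ P hC y ((h q).elim _ _)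

/-- vanishing of the extensions by the higher direct images gives the bijectivity of the edge maps -/
theorem edge_bijective_of_allExtZero (n : ℕ) (G : A) (P : B)
    (h : ∀ q, 1 ≤ q → q ≤ n → AllExtZero.{w} P ((R.rightDerived q).obj G)) :
    (∀ q, q ≤ n → Function.Bijective (edge adj P G q)) ∧ Function.Injective (edge adj P G (n + 1)) := by
  induction n generalizing G with
  | zero =>
    exact ⟨fun q hq => by obtain rfl := Nat.le_zero.1 hq; exact edge_zero_bijective adj P G,
      edge_one_injective adj P G⟩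
  | succ n ih =>
    obtain ⟨S, hS, hI, rfl⟩ : ∃ S : ShortComplex A, S.ShortExact ∧ Injective S.X₂ ∧ S.X₁ = G :=
      ⟨EtMVLib.injSES G, EtMVLib.injSES_shortExact G, inferInstanceAs (Injective (Injective.under G)), rfl⟩
    haveI := hS.mono_f
    let Δ := SESResLib.derivedLES R
    let T : ShortComplex B := ShortComplex.mk (R.map S.f) (cokernel.π (R.map S.f)) (cokernel.condition _)
    have hT : T.ShortExact :=
      { exact := ShortComplex.exact_of_g_is_cokernel _ (cokernelIsCokernel _)
        mono_f := inferInstanceAs (Mono (R.map S.f)) }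
    haveI : Injective T.X₂ := Injective.injective_of_adjoint adj _
    let c : T.X₃ ⟶ R.obj S.X₃ := cokernel.desc _ (R.map S.g) (by rw [← R.map_comp, S.zero, R.map_zero])
    -- the cokernel of `c` is the first derived functor
    haveI : Mono c := by
      refine Preadditive.mono_of_cancel_zero _ fun {Y} g hg => ?_
      obtain ⟨Y', π, hπ, a, ha⟩ := surjective_up_to_refinements_of_epi (cokernel.π (R.map S.f)) g
      have h0 : a ≫ R.map S.g = 0 := by
        have : a ≫ cokernel.π (R.map S.f) ≫ c = 0 := by rw [← Category.assoc, ← ha, Category.assoc, hg, comp_zero]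
        simpa [c] using this
      haveI : Mono (S.map R).f := inferInstanceAs (Mono (R.map S.f))
      obtain ⟨b, hb⟩ : ∃ b : Y' ⟶ R.obj S.X₁, b ≫ R.map S.f = a :=
        ⟨_, (KernelFork.IsLimit.lift'
          ((hS.exact.map_of_mono_of_preservesKernel R inferInstance inferInstance).fIsKernel) a h0).2⟩
      rw [← cancel_epi π, comp_zero, ha]
      rw [← hb, Category.assoc, cokernel.condition, comp_zero]
    let δ : R.obj S.X₃ ⟶ (R.rightDerived 1).obj S.X₁ :=
      R.rightDerivedZeroIsoSelf.inv.app S.X₃ ≫ Δ.δ S hS 0 1 rfl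
    have hz : R.map S.g ≫ δ = 0 := by
      show R.map S.g ≫ R.rightDerivedZeroIsoSelf.inv.app S.X₃ ≫ Δ.δ S hS 0 1 rfl = 0
      rw [← Category.assoc, R.rightDerivedZeroIsoSelf.inv.naturality S.g, Category.assoc]
      exact (congrArg (R.rightDerivedZeroIsoSelf.inv.app S.X₂ ≫ ·) (Δ.comp_δ S hS 0 1 rfl)).trans comp_zero
    have hex : (ShortComplex.mk (R.map S.g) δ hz).Exact :=
      ShortComplex.exact_of_iso (by
        refine ShortComplex.isoMk (R.rightDerivedZeroIsoSelf.app S.X₂) (R.rightDerivedZeroIsoSelf.app S.X₃)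
          (Iso.refl _) (R.rightDerivedZeroIsoSelf.hom.naturality S.g).symm ?_
        exact (Iso.hom_inv_id_app_assoc R.rightDerivedZeroIsoSelf S.X₃ _).trans (Category.comp_id _).symm)
        (Δ.exact₃ S hS 0 1 rfl)
    have hcz : c ≫ δ = 0 := by
      rw [← cancel_epi (cokernel.π (R.map S.f)), ← Category.assoc, cokernel.π_desc, comp_zero]
      exact hz
    have hcex : (ShortComplex.mk c δ hcz).Exact := by
      let φ : ShortComplex.mk (R.map S.g) δ hz ⟶ ShortComplex.mk c δ hcz :=
        { τ₁ := cokernel.π (R.map S.f)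
          τ₂ := 𝟙 _
          τ₃ := 𝟙 _
          comm₁₂ := (cokernel.π_desc _ _ _).trans (Category.comp_id _).symm
          comm₂₃ := (Category.id_comp _).trans (Category.comp_id _).symm }
      haveI : Epi φ.τ₁ := inferInstanceAs (Epi (cokernel.π (R.map S.f)))
      exact (ShortComplex.exact_iff_of_epi_of_isIso_of_mono φ).1 hex
    haveI : Epi (Δ.δ S hS 0 1 rfl) :=
      (Δ.exact₁ S hS 0 1 rfl).epi_f ((R.isZero_rightDerived_obj_injective_succ 0 S.X₂).eq_of_tgt _ _)
    haveI : Epi δ := epi_comp _ _
    have hC : (ShortComplex.mk c δ hcz).ShortExact :=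
      { exact := hcex, mono_f := inferInstanceAs (Mono c), epi_g := inferInstanceAs (Epi δ) }
    have hc := fun q => postcomp_bijective_of_allExtZero hC P (h 1 le_rfl (by omega)) q
    obtain ⟨ihb, ihi⟩ := ih S.X₃ fun q hq hqn => by
      obtain ⟨q, rfl⟩ := Nat.exists_eq_add_of_le hq
      rw [Nat.add_comm]
      haveI : IsIso (Δ.δ S hS (q + 1) (q + 2) rfl) := by
        haveI : Mono (Δ.δ S hS (q + 1) (q + 2) rfl) := (Δ.exact₃ S hS (q + 1) (q + 2) rfl).mono_g
          ((R.isZero_rightDerived_obj_injective_succ q S.X₂).eq_of_src _ _)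
        haveI : Epi (Δ.δ S hS (q + 1) (q + 2) rfl) := (Δ.exact₁ S hS (q + 1) (q + 2) rfl).epi_f
          ((R.isZero_rightDerived_obj_injective_succ (q + 1) S.X₂).eq_of_tgt _ _)
        exact isIso_of_mono_of_epi _
      exact allExtZero_of_iso (asIso (Δ.δ S hS (q + 1) (q + 2) rfl)).symm (h (q + 2) (by omega) (by omega))
    let φ : T.map L ⟶ S :=
      { τ₁ := adj.counit.app S.X₁
        τ₂ := adj.counit.app S.X₂
        τ₃ := (adj.homEquiv _ _).symm c
        comm₁₂ := (adj.counit.naturality S.f).symm
        comm₂₃ := by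
          change adj.counit.app S.X₂ ≫ S.g = L.map (cokernel.π (R.map S.f)) ≫ (adj.homEquiv _ _).symm c
          rw [← adj.homEquiv_naturality_left_symm, cokernel.π_desc, Adjunction.homEquiv_counit]
          exact (adj.counit.naturality S.g).symm }
    have hedge : ∀ {q : ℕ} (z : Ext P T.X₃ q), edge adj P S.X₁ (q + 1) (z.comp hT.extClass rfl) =
        (edge adj P S.X₃ q (z.comp (Ext.mk₀ c) (add_zero q))).comp hS.extClass rfl := fun {q} z => by
      refine (mapExt_extClass_natural hT hS φ z).trans ?_
      refine congrArg (fun t : Ext (L.obj P) S.X₃ q => t.comp hS.extClass (rfl : q + 1 = q + 1)) ?_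
      rw [edge_apply, Ext.mapExactFunctor_comp, Ext.mapExactFunctor_mk₀, Ext.comp_assoc_of_third_deg_zero,
        Ext.mk₀_comp_mk₀]
      exact congrArg (fun k : L.obj T.X₃ ⟶ S.X₃ => (z.mapExactFunctor L).comp (Ext.mk₀ k) (add_zero q))
        (adj.homEquiv_counit _ _ c)
    have key : ∀ q, q ≤ n + 1 → Function.Injective (edge adj P S.X₁ (q + 1)) ∧
        (q ≤ n → Function.Surjective (edge adj P S.X₁ (q + 1))) := by
      intro q hq
      have hinj : Function.Injective (edge adj P S.X₃ q) := by
        obtain h' | h' := Nat.lt_or_eq_of_le hq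
        · exact (ihb q (by omega)).1
        · exact h' ▸ ihi
      refine ⟨(injective_iff_map_eq_zero _).2 fun x hx => ?_, fun hqn y => ?_⟩
      · obtain ⟨z, rfl⟩ := Ext.covariant_sequence_exact₁ P hT x (Ext.eq_zero_of_injective _) (rfl : q + 1 = q + 1)
        obtain ⟨w, hw⟩ := Ext.covariant_sequence_exact₃ _ hS (edge adj P S.X₃ q (z.comp (Ext.mk₀ c) (add_zero q)))
          (rfl : q + 1 = q + 1) ((hedge z).symm.trans hx)
        obtain ⟨w', rfl⟩ : ∃ w', edge adj P S.X₂ q w' = w := by
          obtain _ | p := q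
          · exact (edge_zero_bijective adj P S.X₂).2 w
          · exact ⟨0, by rw [map_zero, Ext.eq_zero_of_injective w]⟩
        rw [← edge_mapExt] at hw
        have e : (w'.comp (Ext.mk₀ T.g) (add_zero q)).comp (Ext.mk₀ c) (add_zero q) =
            w'.comp (Ext.mk₀ (R.map S.g)) (add_zero q) := by
          rw [Ext.comp_assoc_of_third_deg_zero, Ext.mk₀_comp_mk₀]
          exact congrArg (fun k => w'.comp (Ext.mk₀ k) (add_zero q)) (cokernel.π_desc _ _ _)
        rw [← (hc q).1 (e.trans (hinj hw))]
        exact comp_g_extClass hT w'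
      · obtain ⟨z, rfl⟩ := Ext.covariant_sequence_exact₁ _ hS y (Ext.eq_zero_of_injective _) (rfl : q + 1 = q + 1)
        obtain ⟨x, rfl⟩ := (ihb q hqn).2 z
        obtain ⟨x', rfl⟩ := (hc q).2 x
        exact ⟨x'.comp hT.extClass rfl, hedge x'⟩
    refine ⟨fun q hq => ?_, (key (n + 1) le_rfl).1⟩
    obtain _ | q := q
    · exact edge_zero_bijective adj P _
    · exact ⟨(key q (by omega)).1, (key q (by omega)).2 (by omega)⟩

end Groth.Agent.AcycBase
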