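import Groth.Agent.AcycBase.Square
import Groth.Agent.AcycCover.Fibres
import Groth.Agent.SiteBase.ResFieldCover.Main
import Groth.Agent.S3471

/-!
# Local acyclicity is stable under locally quasi-finite base change
-/

set_option autoImplicit false
set_option linter.style.haveILetI false
universe u

open CategoryTheory CategoryTheory.Limits AlgebraicGeometry IsLocalRing

namespace Groth.Agent.AcycBase

set_option backward.isDefEq.respectTransparency.types false

theorem isIntegral_residueField_map {A B : Type u} [CommRing A] [CommRing B] (φ : A →+* B) (hφ : φ.IsIntegral)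
    (p : Ideal A) [p.IsPrime] (q : Ideal B) [q.IsPrime] (h : p = q.comap φ) :
    (Ideal.ResidueField.map p q φ h).IsIntegral := by
  let σ := Ideal.ResidueField.map p q φ h
  letI := σ.toAlgebra
  have h1 : ∀ b : B, IsIntegral p.ResidueField (algebraMap B q.ResidueField b) := fun b => by
    obtain ⟨f, hf, hfb⟩ := hφ b
    refine ⟨f.map (algebraMap A p.ResidueField), hf.map _, ?_⟩
    rw [Polynomial.eval₂_map]
    have he : (algebraMap p.ResidueField q.ResidueField).comp (algebraMap A p.ResidueField) =
        (algebraMap B q.ResidueField).comp φ :=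
      RingHom.ext fun a => Ideal.ResidueField.map_algebraMap p q φ h a
    rw [he]
    exact (Polynomial.hom_eval₂ f φ (algebraMap B q.ResidueField) b).symm.trans
      ((congrArg (algebraMap B q.ResidueField) hfb).trans (map_zero _))
  intro z
  obtain ⟨w, rfl⟩ := residue_surjective z
  obtain ⟨a, s, rfl⟩ := IsLocalization.exists_mk'_eq q.primeCompl w
  let ν : Localization.AtPrime q →+* q.ResidueField := residue _
  have hs : ν (IsLocalization.mk' (Localization.AtPrime q) a s) * algebraMap B q.ResidueField s.1 =
      algebraMap B q.ResidueField a := by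
    rw [IsScalarTower.algebraMap_apply B (Localization.AtPrime q) q.ResidueField,
      IsScalarTower.algebraMap_apply B (Localization.AtPrime q) q.ResidueField]
    show ν _ * ν _ = ν _
    rw [← map_mul, IsLocalization.mk'_spec]
  have hne : algebraMap B q.ResidueField s.1 ≠ 0 := fun h0 => by
    rw [IsScalarTower.algebraMap_apply B (Localization.AtPrime q) q.ResidueField] at h0
    exact notMem_maximalIdeal.2 (IsLocalization.map_units (Localization.AtPrime q) s)
      ((residue_eq_zero_iff _).1 h0)
  show IsIntegral p.ResidueField (ν _)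
  rw [← mul_inv_cancel_right₀ hne (ν (IsLocalization.mk' (Localization.AtPrime q) a s)), hs]
  exact (h1 a).mul ((h1 s.1).inv)

/-- residue extensions along integral maps of spectra -/
theorem isIntegral_specResidueFieldMap {A B : Type u} [CommRing A] [CommRing B] (φ : A →+* B) (hφ : φ.IsIntegral)
    (t : Spec (CommRingCat.of B)) : ((Spec.map (CommRingCat.ofHom φ)).residueFieldMap t).hom.IsIntegral := by
  rw [ResFieldCover.spec_residueFieldMap]
  refine RingHom.IsIntegral.trans _ _ (RingHom.isIntegral_of_surjective _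
    (Scheme.Spec.residueFieldIso (CommRingCat.of A) _).commRingCatIsoToRingEquiv.surjective) ?_
  exact RingHom.IsIntegral.trans _ _ (isIntegral_residueField_map φ hφ _ _ rfl)
    (RingHom.isIntegral_of_surjective _ (Scheme.Spec.residueFieldIso (CommRingCat.of B) t).symm.commRingCatIsoToRingEquiv.surjective)

/-- geometric fibres pass along integral base change -/
theorem geomFibres_of_integral_baseChange {RS RS' : Type u} [CommRing RS] [CommRing RS'] (φ : RS →+* RS')
    (hφ : φ.IsIntegral) {P Q : Scheme.{u}} {h : P ⟶ Spec (CommRingCat.of RS)} {h' : Q ⟶ Spec (CommRingCat.of RS')}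
    {a : Q ⟶ P} (sq : IsPullback a h' h (Spec.map (CommRingCat.ofHom φ))) {L : Set ℕ} {n : ℕ}
    (hh : EtAcyc.GeomFibresAcyclicN L n h) : EtAcyc.GeomFibresAcyclicN L n h' := by
  intro t Ω _ _ _ _
  let σ := ((Spec.map (CommRingCat.ofHom φ)).residueFieldMap t).hom
  let s := (Spec.map (CommRingCat.ofHom φ)) t
  letI a0 : Algebra ((Spec (CommRingCat.of RS)).residueField s) Ω :=
    ((algebraMap ((Spec (CommRingCat.of RS')).residueField t) Ω).comp σ).toAlgebra
  haveI : Algebra.IsAlgebraic ((Spec (CommRingCat.of RS)).residueField s) Ω := by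
    have hint : ((algebraMap ((Spec (CommRingCat.of RS')).residueField t) Ω).comp σ).IsIntegral :=
      RingHom.IsIntegral.trans _ _ (isIntegral_specResidueFieldMap φ hφ t)
        (algebraMap_isIntegral_iff.2 Algebra.IsAlgebraic.isIntegral)
    exact ⟨fun x => IsIntegral.isAlgebraic (hint x)⟩
  have e : EtAcyc.geomPt (Spec (CommRingCat.of RS')) t Ω ≫ Spec.map (CommRingCat.ofHom φ) =
      EtAcyc.geomPt (Spec (CommRingCat.of RS)) s Ω := by
    show (Spec.map _ ≫ (Spec (CommRingCat.of RS')).fromSpecResidueField t) ≫ _ = Spec.map _ ≫ _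
    rw [Category.assoc, ← Scheme.Hom.SpecMap_residueFieldMap_fromSpecResidueField, ← Category.assoc,
      ← Spec.map_comp]
    rfl
  have h1 := ((IsPullback.of_hasPullback h' (EtAcyc.geomPt (Spec (CommRingCat.of RS')) t Ω)).flip.paste_vert
    sq.flip).flip
  rw [e] at h1
  exact AcycCover.isAcyclicSchemeN_of_iso h1.isoPullback (hh s Ω)

variable {X Y X' Y' : Scheme.{u}} {g : X ⟶ Y} {i : Y' ⟶ Y} {g₁ : X' ⟶ Y'} {p : X' ⟶ X}

/-- geometric fibres of strict localizations pass along locally quasi-finite base change -/
theorem onStrict_geomFibres_baseChange [LocallyQuasiFinite i] [LocallyOfFiniteType i] (sq : IsPullback p g₁ g i)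
    {L : Set ℕ} {n : ℕ} (hg : EtAcyc.OnStrictLocalizations g fun _ _ h => EtAcyc.GeomFibresAcyclicN L n h) :
    EtAcyc.OnStrictLocalizations g₁ fun _ _ h => EtAcyc.GeomFibresAcyclicN L n h := by
  intro x' RS' RX' _ _ _ _ _ _ _ _ _ _ _ _ hc
  obtain ⟨RS, RX, _, _, _, _, _, _, _, _, _, _, χ, hχl, φ, ψ, hχ, hsq, hφ⟩ :=
    exists_isPullback_strict sq x' RS' RX' hc
  letI := χ.toAlgebra
  haveI : IsLocalHom (algebraMap RS RX) := hχl
  exact geomFibres_of_integral_baseChange φ hφ hsq (hg (p.base x') RS RX hχ)

/-- local acyclicity passes along locally quasi-finite base change -/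
theorem isLocAcyclicN_baseChange [LocallyQuasiFinite i] [LocallyOfFiniteType i] (sq : IsPullback p g₁ g i)
    {L : Set ℕ} (hL : ∃ ℓ ∈ L, ℓ.Prime) {n : ℕ} (hg : EtAcyc.IsLocAcyclicN g L n) :
    EtAcyc.IsLocAcyclicN g₁ L n :=
  (S3471.result g₁ L hL n).2 (onStrict_geomFibres_baseChange sq ((S3471.result g L hL n).1 hg))

end Groth.Agent.AcycBase
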