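import Groth.Agent.AcycBase.MonoCrit
import Groth.Agent.AcycCover.StrictMap
import Groth.Agent.EtFound.AcyclicComp

/-!
# Base change along quasi-compact open immersions under local acyclicity
-/

set_option autoImplicit false
set_option linter.style.haveILetI false
universe u

open CategoryTheory CategoryTheory.Limits AlgebraicGeometry Opposite IsLocalRing

namespace Groth.Agent.AcycBase

open Groth.Agent.EtLimit Groth.Agent.EtFound Groth.Agent.EtBC

set_option backward.isDefEq.respectTransparency.types false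

/-- torsion sheaves for no primes vanish -/
theorem isZero_of_isLTorsion {X : Scheme.{u}} {L : Set ℕ} (hL : ¬ ∃ ℓ ∈ L, ℓ.Prime) {F : EtCoh.Ab X}
    (hF : EtAcyc.IsLTorsion L F) : IsZero F := by
  refine (isZero_iff_stalks F).2 fun Ω _ _ ξ => ?_
  haveI : Subsingleton ((EtCoh.stalk ξ).obj F) := subsingleton_of_forall_eq 0 fun t => by
    obtain ⟨m, ⟨-, hm⟩, hmt⟩ := (S8525.result L F).1 hF Ω ξ t
    have : m = 1 := by
      by_contra h
      exact hL ⟨m.minFac, hm _ (Nat.minFac_prime h) m.minFac_dvd, Nat.minFac_prime h⟩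
    rwa [this, one_smul] at hmt
  exact AddCommGrpCat.isZero_of_subsingleton _

variable {X Y : Scheme.{u}} (g : X ⟶ Y) {L : Set ℕ} {n : ℕ} (hg : EtAcyc.IsLocAcyclicN g L n)
  {U P : Scheme.{u}} (i : U ⟶ Y) [IsOpenImmersion i] [QuasiCompact i] {j : P ⟶ X} {e : P ⟶ U}
  (c : IsPullback e j i g) [PreservesFiniteLimits (EtCoh.pull e)]

include hg in
set_option maxHeartbeats 1000000 in
/-- the base change maps along quasi-compact open immersions -/
theorem bcQ_immersion (F : EtCoh.Ab U) (hF : EtAcyc.IsLTorsion L F) :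
    (∀ q : ℕ, q ≤ n → IsIso (EtBC.bcQ i g j e c.w q F)) ∧ Mono (EtBC.bcQ i g j e c.w (n + 1) F) := by
  suffices h : ∀ (Ω : Type u) (_ : Field Ω) (_ : IsSepClosed Ω) (ξ : Spec (CommRingCat.of Ω) ⟶ X),
      (∀ q : ℕ, q ≤ n → IsIso ((EtCoh.stalk ξ).map (EtBC.bcQ i g j e c.w q F))) ∧
        Mono ((EtCoh.stalk ξ).map (EtBC.bcQ i g j e c.w (n + 1) F)) by
    refine ⟨fun q hq => EtFound.isIso_of_stalks _ fun Ω iF iS ξ => ?_, (mono_iff_stalks _).2 fun Ω iF iS ξ => ?_⟩
    · exact (ConcreteCategory.isIso_iff_bijective _).1 ((h Ω iF iS ξ).1 q hq)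
    · exact (AddCommGrpCat.mono_iff_injective _).1 (h Ω iF iS ξ).2
  intro Ω _ _ ξ
  obtain ⟨x, RX, _, _, _, _, _, τ, rfl⟩ := exists_strict_point ξ
  obtain ⟨RS, _, _, _, _, _⟩ := S0537.result (Y.presheaf.stalk (g.base x))
  obtain ⟨ψ, _, hψ⟩ := AcycCover.exists_strictMap g x RS RX
  let π := Hens2.specOf Y (g.base x) RS
  let h := Spec.map (CommRingCat.ofHom ψ)
  have hspec : h ≫ π = Hens2.specOf X x RX ≫ g := specOf_map x RS RX ψ hψ
  have hac : EtAcyc.IsAcyclicN h L n :=
    AcycCover.onStrictLocalizations_apply g hg x (g.base x) rfl RS RX ψ hspec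
  let PS := pullback i π
  let aS : PS ⟶ U := pullback.fst i π
  let bS : PS ⟶ Spec (CommRingCat.of RS) := pullback.snd i π
  haveI : IsOpenImmersion bS := MorphismProperty.pullback_snd _ _ inferInstance
  let W : (Spec (CommRingCat.of RS)).Etale := Scheme.Etale.mk bS
  let PX := pullback bS h
  let m : PX ⟶ PS := pullback.fst bS h
  let bX : PX ⟶ Spec (CommRingCat.of RX) := pullback.snd bS h
  have hX : IsPullback (m ≫ aS) bX i (Hens2.specOf X x RX ≫ g) := by
    rw [← hspec]
    exact (IsPullback.of_hasPullback bS h).paste_horiz (IsPullback.of_hasPullback i π)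
  haveI : PreservesFiniteLimits (EtCoh.pull m) := pull_preservesFiniteLimits _
  haveI : PreservesFiniteLimits (EtCoh.pull (EtAcyc.prj h W)) := pull_preservesFiniteLimits _
  have hc : (∀ q : ℕ, q ≤ n → Function.Bijective (EtCore.Hpull m ((EtCoh.pull aS).obj F) q)) ∧
      Function.Injective (EtCore.Hpull m ((EtCoh.pull aS).obj F) (n + 1)) :=
    hac W ((EtCoh.pull aS).obj F) (isLTorsion_pull aS L hF)
  haveI : IsIso (appOf (θPull m aS (m ≫ aS) rfl) F) := by delta appOf; infer_instance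
  refine ⟨fun q hq => ?_, ?_⟩
  · refine (isIso_stalk_iff_HpullVia c x RS RX ψ hψ τ PS PX aS bS (IsPullback.of_hasPullback i π) (m ≫ aS) bX hX m
      rfl pullback.condition F q).2 ?_
    have key : Function.Bijective (fun ξ => EtCore.HpullVia m aS (m ≫ aS) rfl F q ξ) := by
      rw [show (fun ξ => EtCore.HpullVia m aS (m ≫ aS) rfl F q ξ) = _ from
        funext fun ξ => HpullVia_eq m aS (m ≫ aS) rfl F q ξ]
      exact (hmap_bijective (appOf (θPull m aS (m ≫ aS) rfl) F) q).comp (hc.1 q hq)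
    exact key
  · refine mono_stalk_of_HpullVia c x RS RX ψ hψ τ PS PX aS bS (IsPullback.of_hasPullback i π) (m ≫ aS) bX hX m
      rfl pullback.condition F (n + 1) ?_
    have key : Function.Injective (fun ξ => EtCore.HpullVia m aS (m ≫ aS) rfl F (n + 1) ξ) := by
      rw [show (fun ξ => EtCore.HpullVia m aS (m ≫ aS) rfl F (n + 1) ξ) = _ from
        funext fun ξ => HpullVia_eq m aS (m ≫ aS) rfl F (n + 1) ξ]
      exact (hmap_bijective (appOf (θPull m aS (m ≫ aS) rfl) F) (n + 1)).1.comp hc.2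
    exact key

end Groth.Agent.AcycBase
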