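import Groth.Agent.IndEtStrict.Stalk

/-!
# A strict localization factoring through an étale morphism
-/

set_option autoImplicit false
set_option linter.style.haveILetI false
universe u

open CategoryTheory CategoryTheory.Limits AlgebraicGeometry IsLocalRing

namespace Groth.Agent.AcycBase

set_option backward.isDefEq.respectTransparency.types false

/-- a strict localization factoring through an étale morphism is one of the étale scheme -/
theorem exists_strict_lift {T Y : Scheme.{u}} (ρ : T ⟶ Y) [AlgebraicGeometry.Etale ρ] {y : Y} (R : Type u)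
    [CommRing R] [IsLocalRing R] [Algebra (Y.presheaf.stalk y) R] [IsLocalHom (algebraMap (Y.presheaf.stalk y) R)]
    [Hensel.IsStrictHenselization (Y.presheaf.stalk y) R] (l : Spec (CommRingCat.of R) ⟶ T)
    (hl : l ≫ ρ = Hens2.specOf Y y R) :
    ∃ (t : T) (_ : Algebra (T.presheaf.stalk t) R) (_ : IsLocalHom (algebraMap (T.presheaf.stalk t) R))
      (_ : Hensel.IsStrictHenselization (T.presheaf.stalk t) R), l = Hens2.specOf T t R ∧ ρ t = y := by
  let t := l (closedPoint R)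
  have hty : ρ t = y := by
    rw [← Scheme.Hom.comp_apply, hl, Hens2.specOf]
    exact UnitStalk.specMap_closed y _
  subst hty
  obtain ⟨α, hα, hαe⟩ := UnitStalk.exists_stalk_hom l (x := t) rfl
  letI aT : Algebra (T.presheaf.stalk t) R := α.toAlgebra
  haveI : IsLocalHom (algebraMap (T.presheaf.stalk t) R) := hα
  refine ⟨t, aT, hα, ?_, hαe.symm, rfl⟩
  obtain ⟨_, ⟨U, hU, rfl⟩, hyU, -⟩ :=
    Y.isBasis_affineOpens.exists_subset_of_mem_open (Set.mem_univ (ρ t)) isOpen_univ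
  obtain ⟨_, ⟨W, hW, rfl⟩, htW, hWU⟩ :=
    T.isBasis_affineOpens.exists_subset_of_mem_open (show t ∈ ρ ⁻¹ᵁ U from hyU) (ρ ⁻¹ᵁ U).2
  replace hU : IsAffineOpen U := hU
  replace hW : IsAffineOpen W := hW
  letI aUY : Algebra Γ(Y, U) (Y.presheaf.stalk (ρ t)) := (Y.presheaf.germ U (ρ t) hyU).hom.toAlgebra
  haveI : IsLocalization.AtPrime (Y.presheaf.stalk (ρ t)) (hU.primeIdealOf ⟨ρ t, hyU⟩).asIdeal :=
    hU.isLocalization_stalk ⟨ρ t, hyU⟩
  letI aUR : Algebra Γ(Y, U) R :=
    ((algebraMap (Y.presheaf.stalk (ρ t)) R).comp (algebraMap Γ(Y, U) _)).toAlgebra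
  haveI : IsScalarTower Γ(Y, U) (Y.presheaf.stalk (ρ t)) R := IsScalarTower.of_algebraMap_eq fun _ => rfl
  have hUR : EtPBC.IsIndEtale Γ(Y, U) R := S0734.result Γ(Y, U) (Y.presheaf.stalk (ρ t)) R
    (IndZarLib.isIndEtale_of_isIndZariski
      (IndEtLib.isIndZariski_localization (hU.primeIdealOf ⟨ρ t, hyU⟩).asIdeal.primeCompl (Y.presheaf.stalk (ρ t))))
    (S12237.result (Y.presheaf.stalk (ρ t)) R)
  letI aUW : Algebra Γ(Y, U) Γ(T, W) := (ρ.appLE U W hWU).hom.toAlgebra
  haveI : Algebra.Etale Γ(Y, U) Γ(T, W) := RingHom.etale_algebraMap.1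
    (HasRingHomProperty.appLE @AlgebraicGeometry.Etale ρ inferInstance ⟨U, hU⟩ ⟨W, hW⟩ hWU)
  letI aW : Algebra Γ(T, W) (T.presheaf.stalk t) := (T.presheaf.germ W t htW).hom.toAlgebra
  haveI : IsLocalization.AtPrime (T.presheaf.stalk t) (hW.primeIdealOf ⟨t, htW⟩).asIdeal :=
    hW.isLocalization_stalk ⟨t, htW⟩
  letI aWR : Algebra Γ(T, W) R := (α.comp (algebraMap Γ(T, W) _)).toAlgebra
  haveI : IsScalarTower Γ(T, W) (T.presheaf.stalk t) R := IsScalarTower.of_algebraMap_eq fun _ => rfl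
  haveI : IsScalarTower Γ(Y, U) Γ(T, W) R := by
    refine IsScalarTower.of_algebraMap_eq' ?_
    haveI : IsOpenImmersion hU.fromSpec := hU.isOpenImmersion_fromSpec
    let g₁ : Γ(T, W) ⟶ T.presheaf.stalk t := T.presheaf.germ W t htW
    let g₂ : T.presheaf.stalk t ⟶ CommRingCat.of R := CommRingCat.ofHom α
    let g₃ : Γ(Y, U) ⟶ Y.presheaf.stalk (ρ t) := Y.presheaf.germ U (ρ t) hyU
    let g₄ : Y.presheaf.stalk (ρ t) ⟶ CommRingCat.of R := CommRingCat.ofHom (algebraMap (Y.presheaf.stalk (ρ t)) R)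
    show (g₃ ≫ g₄).hom = (ρ.appLE U W hWU ≫ g₁ ≫ g₂).hom
    refine congrArg CommRingCat.Hom.hom (Spec.map_injective ((cancel_mono hU.fromSpec).1 ?_) :
      g₃ ≫ g₄ = ρ.appLE U W hWU ≫ g₁ ≫ g₂)
    have h1 : Spec.map g₁ ≫ hW.fromSpec = T.fromSpecStalk t := by
      rw [← hW.fromSpecStalk_eq_fromSpecStalk htW]
      rfl
    have h3 : Spec.map g₃ ≫ hU.fromSpec = Y.fromSpecStalk (ρ t) := by
      rw [← hU.fromSpecStalk_eq_fromSpecStalk hyU]
      rfl
    simp only [Spec.map_comp, Category.assoc]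
    rw [h3, hU.SpecMap_appLE_fromSpec ρ hW hWU, reassoc_of% h1, ← Category.assoc]
    exact (hl.symm.trans (congrArg (· ≫ ρ) hαe.symm))
  have hWR : EtPBC.IsIndEtale Γ(T, W) R :=
    S0735.result Γ(Y, U) Γ(T, W) R (IndEtStrict.isIndEtale_of_etale _ _) hUR
  have hTR : EtPBC.IsIndEtale (T.presheaf.stalk t) R := S0735.result Γ(T, W) (T.presheaf.stalk t) R
    (IndZarLib.isIndEtale_of_isIndZariski
      (IndEtLib.isIndZariski_localization (hW.primeIdealOf ⟨t, htW⟩).asIdeal.primeCompl (T.presheaf.stalk t))) hWR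
  haveI : HenselianLocalRing R := Hensel.IsStrictHenselization.henselian (Y.presheaf.stalk (ρ t))
  haveI : IsSepClosed (ResidueField R) :=
    (Hensel.IsStrictHenselization.isSepClosure (R := Y.presheaf.stalk (ρ t)) (S := R)).sep_closed
  exact IndEtStrict.isStrictHenselization_of_isIndEtale (T.presheaf.stalk t) R hTR

/-- compatibility of maps of strict henselizations from their spectra -/
theorem comp_eq_of_specOf {X S : Scheme.{u}} (f : X ⟶ S) (x : X) {RS RX : Type u} [CommRing RS] [CommRing RX]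
    [IsLocalRing RS] [IsLocalRing RX] [Algebra (S.presheaf.stalk (f.base x)) RS] [Algebra (X.presheaf.stalk x) RX]
    (ψ : RS →+* RX)
    (e : Spec.map (CommRingCat.ofHom ψ) ≫ Hens2.specOf S (f.base x) RS = Hens2.specOf X x RX ≫ f) :
    ψ.comp (algebraMap (S.presheaf.stalk (f.base x)) RS) =
      (algebraMap (X.presheaf.stalk x) RX).comp (f.stalkMap x).hom := by
  refine UnitStalk.hom_eq_of_fromSpecStalk _ _ _ ?_
  refine Eq.trans ?_ (UnitStalk.specMap_fromSpecStalk f x _).symm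
  rw [CommRingCat.ofHom_comp, Spec.map_comp, Category.assoc]
  refine e.trans ?_
  rw [Hens2.specOf, Category.assoc]

end Groth.Agent.AcycBase
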