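import Groth.Agent.EtBC.Crit

/-! injectivity of stalks of the base change morphism in terms of strict localizations -/

set_option autoImplicit false
set_option linter.style.haveILetI false
set_option linter.unusedSectionVars false
universe u

open CategoryTheory CategoryTheory.Limits AlgebraicGeometry Opposite IsLocalRing

namespace Groth.Agent.AcycBase

open Groth.Agent.EtLimit Groth.Agent.EtFound Groth.Agent.EtBC SiteBase

set_option backward.isDefEq.respectTransparency.types false

theorem mono_middle {C : Type*} [Category* C] {A₁ A₂ A₃ A₄ B : C} (a : A₁ ⟶ A₂) (b : A₂ ⟶ A₃) (c : A₃ ⟶ A₄)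
    (d : A₁ ⟶ B) (r : B ⟶ A₄) [IsIso a] [IsIso c] [IsIso d] (hr : Mono r) (h : a ≫ b ≫ c = d ≫ r) : Mono b := by
  have e : b = inv a ≫ (d ≫ r) ≫ inv c := by simp [← h]
  haveI := hr
  rw [e]
  infer_instance

/-- injectivity of relative pullback is invariant under isomorphisms of the two schemes -/
theorem hVia_injective_iff {U V Z U' V' : Scheme.{u}} (m : U ⟶ V) (t : V ⟶ Z) (t₀ : U ⟶ Z) (h : m ≫ t = t₀)
    (m' : U' ⟶ V') (t' : V' ⟶ Z) (t₀' : U' ⟶ Z) (h' : m' ≫ t' = t₀') (i : V' ≅ V) (j : U' ≅ U)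
    (hi : i.hom ≫ t = t') (hj : j.hom ≫ t₀ = t₀') (hm : j.hom ≫ m = m' ≫ i.hom)
    [PreservesFiniteLimits (EtCoh.pull m)] [PreservesFiniteLimits (EtCoh.pull m')]
    [PreservesFiniteLimits (EtCoh.pull i.hom)] [PreservesFiniteLimits (EtCoh.pull j.hom)]
    [PreservesFiniteLimits (EtCoh.pull (j.hom ≫ m))] (G : EtCoh.Ab Z) (n : ℕ) :
    Function.Injective (hVia m t t₀ h G n) ↔ Function.Injective (hVia m' t' t₀' h' G n) := by
  have hc : (j.hom ≫ m) ≫ t = t₀' := by rw [Category.assoc, h, hj]
  have e : (fun ξ => hVia j.hom t₀ t₀' hj G n (hVia m t t₀ h G n ξ)) =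
      fun ξ => hVia m' t' t₀' h' G n (hVia i.hom t t' hi G n ξ) := funext fun ξ =>
    (hVia_comp j.hom m t (j.hom ≫ m) t₀ t₀' rfl h hj hc G n ξ).trans
      (hVia_comp m' i.hom t (j.hom ≫ m) t' t₀' hm.symm hi h' hc G n ξ).symm
  exact (Function.Injective.of_comp_iff (hVia_bijective j.hom t₀ t₀' hj G n).1 (hVia m t t₀ h G n)).symm.trans
    ((iff_of_eq (congrArg Function.Injective e)).trans
      (Function.Injective.of_comp_iff' (hVia m' t' t₀' h' G n) (hVia_bijective i.hom t t' hi G n)))

section fibre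

variable {X S X' S' : Scheme.{u}}
variable {f : X ⟶ S} {g : S' ⟶ S} {f' : X' ⟶ S'} {g' : X' ⟶ X} (w : g' ≫ f = f' ≫ g)
  {T T' : Scheme.{u}} {π : T ⟶ S} {π' : T' ⟶ S'} {Ω : Type u} [Field Ω] [IsSepClosed Ω]
  {z : Spec (CommRingCat.of Ω) ⟶ T} {z' : Spec (CommRingCat.of Ω) ⟶ T'}
  {m : pullback f' π' ⟶ pullback f π} {u : pullback f' π' ⟶ X}
  (hu : pullback.fst f' π' ≫ g' = u) (hmu : m ≫ pullback.fst f π = u)

theorem fibPull_injective_iff [PreservesFiniteLimits (EtCoh.pull m)] (F : EtCoh.Ab X) (n : ℕ) :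
    Function.Injective ((fibPull hu hmu n).app F) ↔
      Function.Injective (hVia m (pullback.fst f π) u hmu F n) := by
  show Function.Injective (hThen m ((EtCoh.pull (pullback.fst f π)).obj F) ((fibβ hu hmu).app F) n) ↔ _
  have e : ∀ ξ, hThen m ((EtCoh.pull (pullback.fst f π)).obj F) ((fibβ hu hmu).app F) n ξ =
      hmap ((θPull (pullback.fst f' π') g' u hu).inv.app F) n (hVia m (pullback.fst f π) u hmu F n ξ) :=
    fun ξ => hThen_comp_right m _ _ _ n ξ
  exact (iff_of_eq (congrArg Function.Injective (funext e))).trans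
    (Function.Injective.of_comp_iff (EtBC.hmap_bijective ((θPull (pullback.fst f' π') g' u hu).inv.app F) n).1 _)

variable (hz : LiftsUniquely π z) (hz' : LiftsUniquely π' z') {m₀ : T' ⟶ T} (hm : m₀ ≫ π = π' ≫ g)
  (hmz : z' ≫ m₀ = z) (hm₀ : m ≫ pullback.snd f π = pullback.snd f' π' ≫ m₀)

include hu hmu hm hmz hm₀ hz hz' in
/-- a stalk of the base change map is injective when the pullback between the fibres is -/
theorem mono_stalk_bcQ [QuasiCompact f] [QuasiSeparated f] [QuasiCompact f'] [QuasiSeparated f']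
    [PreservesFiniteLimits (EtCoh.pull g')] [PreservesFiniteLimits (EtCoh.pull m)]
    (P : EtPres π) (P' : EtPres π') (F : EtCoh.Ab X) (q : ℕ)
    (hinj : Function.Injective (hVia m (pullback.fst f π) u hmu F q)) :
    Mono ((EtCoh.stalk (z' ≫ π')).map (EtBC.bcQ f g f' g' w q F)) := by
  haveI : PreservesFiniteLimits (EtCoh.pull (pullback.fst f π)) := pull_preservesFiniteLimits _
  haveI : PreservesFiniteLimits (EtCoh.pull (pullback.fst f' π')) := pull_preservesFiniteLimits _
  haveI : (EtCoh.stalk (z ≫ π)).Additive := Functor.additive_of_preserves_binary_products _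
  haveI : (EtCoh.stalk (z' ≫ π')).Additive := Functor.additive_of_preserves_binary_products _
  obtain ⟨e, he, heδ⟩ := exists_stalk_rpush f P hz
  obtain ⟨e', he', heδ'⟩ := exists_stalk_rpush f' P' hz'
  have hξ := point_comp (z := z) (z' := z') hm hmz
  have h := ConnSeq.hom_unique (G := pullPullSeq g' (pullback.fst f' π'))
    (derivedSeq_effaced (EtCoh.push f) (EtCoh.stalk (z ≫ π)))
    (fun n => bcFibNat f f' g' w π π' hξ n (e' n).hom) (fun n => (e n).hom ≫ fibPull hu hmu n)
    (fun E hE n => bcFibNat_δ w hξ (fun n => (e' n).hom) heδ' E hE n)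
    (fun E hE n => bcFibPull_δ hu hmu (fun n => (e n).hom) heδ E hE n)
    (bcFibNat_zero w hu hmu hz hz' hm hmz hm₀ (e 0).hom he (e' 0).hom he') q
  have hF := congrArg (fun t => NatTrans.app t F) h
  have hi := (fibPull_injective_iff hu hmu F q).2 hinj
  exact mono_middle ((stalkToPull hξ).hom.app ((EtCoh.Rpush f q).obj F)) _
    ((e' q).hom.app ((EtCoh.pull g').obj F)) ((e q).hom.app F) ((fibPull hu hmu q).app F)
    ((AddCommGrpCat.mono_iff_injective _).2 hi) ((bcFibNat_app w hξ q _ F).symm.trans hF)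
end fibre

section strict

variable {X S Y T : Scheme.{u}} {f : X ⟶ S} {g : T ⟶ S} [QuasiCompact g] [QuasiSeparated g] {h : Y ⟶ X}
  {e : Y ⟶ T} (c : IsPullback e h g f) [PreservesFiniteLimits (EtCoh.pull e)]
  (x : X) (RS : Type u) [CommRing RS] [IsLocalRing RS] [Algebra (S.presheaf.stalk (f.base x)) RS]
  [IsLocalHom (algebraMap (S.presheaf.stalk (f.base x)) RS)]
  [Hensel.IsStrictHenselization (S.presheaf.stalk (f.base x)) RS]
  (RX : Type u) [CommRing RX] [IsLocalRing RX] [Algebra (X.presheaf.stalk x) RX]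
  [IsLocalHom (algebraMap (X.presheaf.stalk x) RX)] [Hensel.IsStrictHenselization (X.presheaf.stalk x) RX]
  (ψ : RS →+* RX) [IsLocalHom ψ]
  (hψ : ψ.comp (algebraMap (S.presheaf.stalk (f.base x)) RS) =
    (algebraMap (X.presheaf.stalk x) RX).comp (f.stalkMap x).hom)

include hψ in
/-- injectivity of the stalk at a point of a strict localization -/
theorem mono_stalk_of_HpullVia {Ω : Type u} [Field Ω] [IsSepClosed Ω] (τ : ResidueField RX →+* Ω)
    (PS PX : Scheme.{u}) (aS : PS ⟶ T) (bS : PS ⟶ Spec (CommRingCat.of RS))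
    (hS : IsPullback aS bS g (Hens2.specOf S (f.base x) RS))
    (aX : PX ⟶ T) (bX : PX ⟶ Spec (CommRingCat.of RX))
    (hX : IsPullback aX bX g (Hens2.specOf X x RX ≫ f))
    (m : PX ⟶ PS) (w : m ≫ aS = aX) (hm : m ≫ bS = bX ≫ Spec.map (CommRingCat.ofHom ψ))
    [PreservesFiniteLimits (EtCoh.pull m)] (F : EtCoh.Ab T) (q : ℕ)
    (hinj : Function.Injective (EtCore.HpullVia m aS aX w F q)) :
    Mono ((EtCoh.stalk (resPt RX τ ≫ Hens2.specOf X x RX)).map (EtBC.bcQ g f h e c.w q F)) := by
  haveI : QuasiCompact h := MorphismProperty.of_isPullback c inferInstance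
  haveI : QuasiSeparated h := MorphismProperty.of_isPullback c inferInstance
  haveI : HenselianLocalRing RS := Hensel.IsStrictHenselization.henselian (S.presheaf.stalk (f.base x))
  haveI : IsSepClosed (ResidueField RS) :=
    (Hensel.IsStrictHenselization.isSepClosure (R := S.presheaf.stalk (f.base x)) (S := RS)).sep_closed
  haveI : HenselianLocalRing RX := Hensel.IsStrictHenselization.henselian (X.presheaf.stalk x)
  haveI : IsSepClosed (ResidueField RX) :=
    (Hensel.IsStrictHenselization.isSepClosure (R := X.presheaf.stalk x) (S := RX)).sep_closed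
  obtain ⟨P⟩ := nonempty_etPres_specOf S (f.base x) RS
  obtain ⟨P'⟩ := nonempty_etPres_specOf X x RX
  let π := Hens2.specOf S (f.base x) RS
  let π' := Hens2.specOf X x RX
  let m₀ := Spec.map (CommRingCat.ofHom ψ)
  have hm₀ : m₀ ≫ π = π' ≫ f := specOf_map x RS RX ψ hψ
  let u := pullback.fst h π' ≫ e
  have hl : u ≫ g = (pullback.snd h π' ≫ m₀) ≫ π := by
    simp only [u, Category.assoc, hm₀, c.w, ← pullback.condition_assoc]
  let mm : pullback h π' ⟶ pullback g π := pullback.lift u (pullback.snd h π' ≫ m₀) hl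
  have hmmu : mm ≫ pullback.fst g π = u := pullback.lift_fst _ _ _
  haveI : PreservesFiniteLimits (EtCoh.pull mm) := pull_preservesFiniteLimits _
  refine mono_stalk_bcQ (z := resPt RS (τ.comp (ResidueField.map ψ))) (z' := resPt RX τ) c.w rfl hmmu
    (liftsUniquely_strict RS π _ (resPt_base RS _)) (liftsUniquely_strict RX π' _ (resPt_base RX _))
    (m₀ := m₀) hm₀ (resPt_map RS RX ψ τ) (pullback.lift_snd _ _ _) P P' F q ?_
  let i : PS ≅ pullback g π := hS.isoPullback
  have hX' : IsPullback u (pullback.snd h π') g (π' ≫ f) := (IsPullback.of_hasPullback h π').paste_horiz c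
  let j : PX ≅ pullback h π' := hX.isoIsPullback _ _ hX'
  haveI : PreservesFiniteLimits (EtCoh.pull i.hom) := pull_preservesFiniteLimits _
  haveI : PreservesFiniteLimits (EtCoh.pull j.hom) := pull_preservesFiniteLimits _
  haveI : PreservesFiniteLimits (EtCoh.pull (j.hom ≫ mm)) := pull_preservesFiniteLimits _
  have j1 : j.hom ≫ u = aX := hX.isoIsPullback_hom_fst _ _ hX'
  have j2 : j.hom ≫ pullback.snd h π' = bX := hX.isoIsPullback_hom_snd _ _ hX'
  have hjm : j.hom ≫ mm = m ≫ i.hom := by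
    apply pullback.hom_ext
    · rw [Category.assoc, hmmu, j1, Category.assoc, hS.isoPullback_hom_fst, w]
    · rw [Category.assoc, pullback.lift_snd, Category.assoc, hS.isoPullback_hom_snd, hm, ← Category.assoc, j2]
  refine (hVia_injective_iff mm (pullback.fst g π) u hmmu m aS aX w i j hS.isoPullback_hom_fst j1 hjm F q).2 ?_
  exact (funext fun ξ => HpullVia_eq m aS aX w F q ξ) ▸ hinj

end strict

end Groth.Agent.AcycBase
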