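import Groth.Agent.AcycBase.Lift
import Groth.Agent.EtBC.Crit
import Groth.Agent.EtBC.VPaste
import Groth.Agent.EtBC.Devissage
import Groth.Agent.EtFound.PushExact
import Groth.Agent.S0655
import Groth.Prelude.Def_EtAcyc
import Groth.Agent.AlgSpLib.EtLocalInst
import Mathlib.AlgebraicGeometry.Morphisms.Finite
import Mathlib.AlgebraicGeometry.Morphisms.QuasiFinite

/-!
# Cohomology over strict localizations from base change along open immersions
-/

set_option autoImplicit false
set_option linter.style.haveILetI false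
universe u

open CategoryTheory CategoryTheory.Limits AlgebraicGeometry IsLocalRing

namespace Groth.Agent.AcycBase

open Groth.Agent.EtLimit Groth.Agent.EtFound Groth.Agent.EtBC

set_option backward.isDefEq.respectTransparency.types false

/-- base change along quasi-compact open immersions in locally quasi-finite schemes over the base -/
def OpenBC {X Y : Scheme.{u}} (g : X ⟶ Y) (L : Set ℕ) (n : ℕ) : Prop :=
  ∀ (Y' : Scheme.{u}) (i : Y' ⟶ Y), LocallyQuasiFinite i → LocallyOfFiniteType i →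
    ∀ (Y'' : Scheme.{u}) (i' : Y'' ⟶ Y'), IsOpenImmersion i' → QuasiCompact i' →
      ∀ [PreservesFiniteLimits (EtCoh.pull (pullback.snd (pullback.snd g i) i'))] (F : EtCoh.Ab Y''),
        EtAcyc.IsLTorsion L F → ∀ q : ℕ, q ≤ n →
          IsIso (EtBC.bcQ i' (pullback.snd g i) (pullback.fst (pullback.snd g i) i')
            (pullback.snd (pullback.snd g i) i') pullback.condition.symm q F)

variable {X Y : Scheme.{u}} {g : X ⟶ Y} {L : Set ℕ} {n : ℕ} (hBC : OpenBC g L n)

/-- base change along the composite with a finite morphism -/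
theorem isIso_bcQ_finite_comp {X' S' X'' S'' T T₁ : Scheme.{u}} {a : T ⟶ S'} {b : S' ⟶ S''} {f : X'' ⟶ S''}
    {a' : T₁ ⟶ X'} {b' : X' ⟶ X''} {gY : X' ⟶ S'} {gX : T₁ ⟶ T} [IsIntegralHom b] [QuasiCompact a]
    [QuasiSeparated a] (sq : IsPullback b' gY f b) (wa : gX ≫ a = a' ≫ gY) (wab : gX ≫ a ≫ b = (a' ≫ b') ≫ f)
    [PreservesFiniteLimits (EtCoh.pull gX)] (q : ℕ) (F : EtCoh.Ab T) (h : IsIso (EtBC.bcQ a gY a' gX wa q F)) :
    IsIso (EtBC.bcQ (a ≫ b) f (a' ≫ b') gX wab q F) := by
  haveI : IsIntegralHom b' := MorphismProperty.of_isPullback sq.flip inferInstance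
  haveI : PreservesFiniteLimits (EtCoh.pull gY) := pull_preservesFiniteLimits _
  haveI := push_preservesFiniteColimits b
  haveI := push_preservesFiniteColimits b'
  haveI := push_preservesFiniteLimits b
  haveI := push_preservesFiniteLimits b'
  haveI : IsIso (EtCoh.baseChange0 b f b' gY sq.w.symm ((EtCoh.Rpush a q).obj F)) :=
    S0655.result b f b' gY sq.flip _
  haveI : IsIso (EtBC.lerayEdgeOut a b q F) := by
    haveI := EtBC.isIso_edgeOut (EtCoh.push a) (EtCoh.push b) q F
    dsimp only [EtBC.lerayEdgeOut]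
    infer_instance
  haveI : IsIso (EtBC.lerayEdgeOut a' b' q ((EtCoh.pull gX).obj F)) := by
    haveI := EtBC.isIso_edgeOut (EtCoh.push a') (EtCoh.push b') q ((EtCoh.pull gX).obj F)
    dsimp only [EtBC.lerayEdgeOut]
    infer_instance
  haveI := h
  have hs := EtBC.bcQ_stack_out (a := a) (b := b) (g := f) (a' := a') (b' := b') sq.w.symm wa wab q F
  haveI : IsIso (EtBC.bcQ (a ≫ b) f (a' ≫ b') gX wab q F ≫
      EtBC.lerayEdgeOut a' b' q ((EtCoh.pull gX).obj F)) := by
    rw [hs]
    infer_instance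
  exact IsIso.of_isIso_comp_right _ (EtBC.lerayEdgeOut a' b' q ((EtCoh.pull gX).obj F))

variable (x : X) (RS RX : Type u) [CommRing RS] [IsLocalRing RS] [CommRing RX] [IsLocalRing RX]
  [Algebra (Y.presheaf.stalk (g.base x)) RS] [IsLocalHom (algebraMap (Y.presheaf.stalk (g.base x)) RS)]
  [Hensel.IsStrictHenselization (Y.presheaf.stalk (g.base x)) RS]
  [Algebra (X.presheaf.stalk x) RX] [IsLocalHom (algebraMap (X.presheaf.stalk x) RX)]
  [Hensel.IsStrictHenselization (X.presheaf.stalk x) RX] (ψ : RS →+* RX) [IsLocalHom ψ]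
  (hspec : Spec.map (CommRingCat.ofHom ψ) ≫ Hens2.specOf Y (g.base x) RS = Hens2.specOf X x RX ≫ g)

include hBC hspec in
set_option maxHeartbeats 1000000 in
/-- the cohomology of an open piece of a finite scheme over an étale neighbourhood -/
theorem bijective_stage {T Z Z'' : Scheme.{u}} [IsAffine T] (q₀ : T ⟶ Y) [AlgebraicGeometry.Etale q₀]
    (p : Z ⟶ T) [IsFinite p] (i' : Z'' ⟶ Z) [IsOpenImmersion i'] [QuasiCompact i']
    (lS : Spec (CommRingCat.of RS) ⟶ T) (hlS : lS ≫ q₀ = Hens2.specOf Y (g.base x) RS)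
    (F : EtCoh.Ab Z'') (hF : EtAcyc.IsLTorsion L F) (q : ℕ) (hq : q ≤ n)
    [PreservesFiniteLimits (EtCoh.pull (pullback.fst (pullback.snd (i' ≫ p) lS) (Spec.map (CommRingCat.ofHom ψ))))] :
    Function.Bijective (hVia (pullback.fst (pullback.snd (i' ≫ p) lS) (Spec.map (CommRingCat.ofHom ψ)))
      (pullback.fst (i' ≫ p) lS)
      (pullback.fst (pullback.snd (i' ≫ p) lS) (Spec.map (CommRingCat.ofHom ψ)) ≫ pullback.fst (i' ≫ p) lS)
      rfl F q) := by
  let h := Spec.map (CommRingCat.ofHom ψ)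
  let gT : pullback g q₀ ⟶ T := pullback.snd g q₀
  let lX : Spec (CommRingCat.of RX) ⟶ pullback g q₀ :=
    pullback.lift (Hens2.specOf X x RX) (h ≫ lS)
      (hspec.symm.trans ((congrArg (h ≫ ·) hlS.symm).trans (Category.assoc _ _ _).symm))
  have hlX : lX ≫ pullback.fst g q₀ = Hens2.specOf X x RX := pullback.lift_fst _ _ _
  have hlX' : lX ≫ gT = h ≫ lS := pullback.lift_snd _ _ _
  obtain ⟨xT, b1, b2, b3, hxT, -⟩ := exists_strict_lift (pullback.fst g q₀) RX lX hlX
  obtain ⟨t, a1, a2, a3, ht, -⟩ := exists_strict_lift q₀ RS lS hlS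
  letI := b1
  haveI := b2
  haveI := b3
  have htx : t = gT.base xT := by
    have e1 : (lX ≫ gT) (closedPoint RX) = gT xT := by
      rw [Scheme.Hom.comp_apply, hxT, Hens2.specOf]
      exact congrArg gT (UnitStalk.specMap_closed xT _)
    have e2 : (h ≫ lS) (closedPoint RX) = t := by
      rw [ht]
      exact (UnitStalk.apply_closedPoint ψ _).trans (UnitStalk.specMap_closed t _)
    rw [hlX'] at e1
    exact e2.symm.trans e1
  obtain ⟨c1, c2, c3, hc⟩ := IndEtStrict.strict_congr htx RS lS ⟨a1, a2, a3, ht⟩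
  letI := c1
  haveI := c2
  haveI := c3
  have hψ : ψ.comp (algebraMap (T.presheaf.stalk (gT.base xT)) RS) =
      (algebraMap ((pullback g q₀).presheaf.stalk xT) RX).comp (gT.stalkMap xT).hom :=
    comp_eq_of_specOf gT xT ψ (by rw [← hc, ← hxT, hlX'])
  haveI : HenselianLocalRing RX := Hensel.IsStrictHenselization.henselian (X.presheaf.stalk x)
  haveI : IsSepClosed (ResidueField RX) :=
    (Hensel.IsStrictHenselization.isSepClosure (R := X.presheaf.stalk x) (S := RX)).sep_closed
  let i : Z ⟶ Y := p ≫ q₀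
  let g₁ : pullback g i ⟶ Z := pullback.snd g i
  let b' : pullback g i ⟶ pullback g q₀ :=
    pullback.lift (pullback.fst g i) (g₁ ≫ p) (by rw [Category.assoc]; exact pullback.condition)
  have sq₁ : IsPullback b' g₁ gT p := by
    refine IsPullback.of_right (h₁₂ := pullback.fst g q₀) (v₁₃ := g) (h₂₂ := q₀) ?_ (pullback.lift_snd _ _ _)
      (IsPullback.of_hasPullback g q₀)
    rw [pullback.lift_fst]
    exact IsPullback.of_hasPullback g i
  let j' := pullback.fst g₁ i'
  let gX := pullback.snd g₁ i'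
  have sq₂ : IsPullback j' gX g₁ i' := IsPullback.of_hasPullback g₁ i'
  have c : IsPullback gX (j' ≫ b') (i' ≫ p) gT := (sq₂.paste_horiz sq₁).flip
  haveI : PreservesFiniteLimits (EtCoh.pull gX) := pull_preservesFiniteLimits _
  haveI : IsIso (EtBC.bcQ i' g₁ j' gX pullback.condition.symm q F) :=
    hBC Z i inferInstance inferInstance Z'' i' inferInstance inferInstance F hF q hq
  have hbc : IsIso (EtBC.bcQ (i' ≫ p) gT (j' ≫ b') gX c.w q F) :=
    isIso_bcQ_finite_comp sq₁ pullback.condition.symm c.w q F inferInstance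
  let P := pullback (i' ≫ p) lS
  let m := pullback.fst (pullback.snd (i' ≫ p) lS) h
  let bX := pullback.snd (pullback.snd (i' ≫ p) lS) h
  have hX : IsPullback (m ≫ pullback.fst (i' ≫ p) lS) bX (i' ≫ p) (Hens2.specOf (pullback g q₀) xT RX ≫ gT) := by
    rw [← hxT, hlX']
    exact (IsPullback.of_hasPullback (pullback.snd (i' ≫ p) lS) h).paste_horiz (IsPullback.of_hasPullback (i' ≫ p) lS)
  have hS : IsPullback (pullback.fst (i' ≫ p) lS) (pullback.snd (i' ≫ p) lS) (i' ≫ p)
      (Hens2.specOf T (gT.base xT) RS) := by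
    rw [← hc]
    exact IsPullback.of_hasPullback (i' ≫ p) lS
  haveI := hbc
  have key := (isIso_stalk_iff_HpullVia c xT RS RX ψ hψ (RingHom.id (ResidueField RX)) P
    (pullback (pullback.snd (i' ≫ p) lS) h) (pullback.fst (i' ≫ p) lS) (pullback.snd (i' ≫ p) lS) hS
    (m ≫ pullback.fst (i' ≫ p) lS) bX hX m rfl pullback.condition F q).1 inferInstance
  have e : Function.Bijective
      (fun ξ => hVia m (pullback.fst (i' ≫ p) lS) (m ≫ pullback.fst (i' ≫ p) lS) rfl F q ξ) := by
    rw [← show (fun ξ => EtCore.HpullVia m (pullback.fst (i' ≫ p) lS) (m ≫ pullback.fst (i' ≫ p) lS) rfl F q ξ) =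
        _ from funext fun ξ => HpullVia_eq m (pullback.fst (i' ≫ p) lS) (m ≫ pullback.fst (i' ≫ p) lS) rfl F q ξ]
    exact key
  exact e

end Groth.Agent.AcycBase
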