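import Groth.Agent.AcycBase.Sys
import Groth.Agent.AcycBase.Stage
import Groth.Agent.FibreAcyc.Limit
import Groth.Agent.FibreAcyc.Conn
import Groth.Agent.UnitStalk.Fibre
import Groth.Agent.S0073

/-!
# Geometric fibres over strict localizations from base change along open immersions
-/

set_option autoImplicit false
set_option linter.style.haveILetI false
universe u

open CategoryTheory CategoryTheory.Limits AlgebraicGeometry Opposite IsLocalRing

namespace Groth.Agent.AcycBase

open Groth.Agent.EtLimit Groth.Agent.EtFound Groth.Agent.EtBC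

set_option backward.isDefEq.respectTransparency.types false

/-- elements of algebraic geometric points have integral multiples -/
theorem exists_integral_multiple {T : Scheme.{u}} [IsAffine T] (t : T) (Ω : Type u) [Field Ω]
    [Algebra (T.residueField t) Ω] [Algebra.IsAlgebraic (T.residueField t) Ω] (x : Ω) :
    ∃ c, ptEval (EtAcyc.geomPt T t Ω) c ≠ 0 ∧
      (ptEval (EtAcyc.geomPt T t Ω)).IsIntegralElem (ptEval (EtAcyc.geomPt T t Ω) c * x) := by
  have hU := isAffineOpen_top T
  have hy : t ∈ (⊤ : T.Opens) := trivial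
  let ρ : Γ(T, ⊤) →+* T.presheaf.stalk t := (T.presheaf.germ ⊤ t hy).hom
  let r : T.presheaf.stalk t →+* T.residueField t := (T.residue t).hom
  let σ : T.residueField t →+* Ω := algebraMap (T.residueField t) Ω
  let φ : Γ(T, ⊤) →+* Ω := (σ.comp r).comp ρ
  have hφ : ptEval (EtAcyc.geomPt T t Ω) = φ := by
    refine congrArg CommRingCat.Hom.hom (?_ : (EtAcyc.geomPt T t Ω).appTop ≫ (Scheme.ΓSpecIso (CommRingCat.of Ω)).hom =
      T.presheaf.germ ⊤ t hy ≫ T.residue t ≫ CommRingCat.ofHom σ)
    show (Spec.map (CommRingCat.ofHom σ) ≫ Spec.map (T.residue t) ≫ T.fromSpecStalk t).appTop ≫ _ = _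
    rw [← Category.assoc, ← Spec.map_comp, Scheme.Hom.comp_appTop, Category.assoc, Scheme.ΓSpecIso_naturality,
      Scheme.fromSpecStalk_appTop]
    simp
    rfl
  rw [hφ]
  letI : Algebra Γ(T, ⊤) (T.presheaf.stalk t) := ρ.toAlgebra
  haveI : IsLocalization.AtPrime (T.presheaf.stalk t) (hU.primeIdealOf ⟨t, hy⟩).asIdeal :=
    hU.isLocalization_stalk ⟨t, hy⟩
  letI : Algebra (T.presheaf.stalk t) Ω := (σ.comp r).toAlgebra
  letI : Algebra Γ(T, ⊤) Ω := φ.toAlgebra
  haveI : IsScalarTower Γ(T, ⊤) (T.presheaf.stalk t) Ω := IsScalarTower.of_algebraMap_eq fun _ => rfl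
  have hint : IsIntegral (T.presheaf.stalk t) x := by
    obtain ⟨p, hp, hpx⟩ := (Algebra.IsAlgebraic.isAlgebraic (R := T.residueField t) x).isIntegral
    have hl : p ∈ Polynomial.lifts r := (Polynomial.lifts_iff_coeff_lifts p).2 fun n =>
      IsLocalRing.residue_surjective (p.coeff n)
    obtain ⟨q, hq, -, hqm⟩ := Polynomial.lifts_and_natDegree_eq_and_monic hl hp
    refine ⟨q, hqm, ?_⟩
    rw [← hpx, ← hq, Polynomial.eval₂_map]
    rfl
  obtain ⟨m, hm⟩ := hint.exists_multiple_integral_of_isLocalization (hU.primeIdealOf ⟨t, hy⟩).asIdeal.primeCompl x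
  refine ⟨m.1, ?_, ?_⟩
  · show (σ.comp r) (ρ m.1) ≠ 0
    exact fun h => (IsLocalRing.notMem_maximalIdeal.2
      (IsLocalization.map_units (T.presheaf.stalk t) m))
      ((IsLocalRing.residue_eq_zero_iff _).1 ((map_eq_zero σ).1 h))
  · rwa [Submonoid.smul_def, Algebra.smul_def] at hm

variable {X Y : Scheme.{u}} {g : X ⟶ Y} {L : Set ℕ} {n : ℕ} (hBC : OpenBC g L n)
  (x : X) (RS RX : Type u) [CommRing RS] [IsLocalRing RS] [CommRing RX] [IsLocalRing RX]
  [Algebra (Y.presheaf.stalk (g.base x)) RS] [IsLocalHom (algebraMap (Y.presheaf.stalk (g.base x)) RS)]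
  [Hensel.IsStrictHenselization (Y.presheaf.stalk (g.base x)) RS]
  [Algebra (X.presheaf.stalk x) RX] [IsLocalHom (algebraMap (X.presheaf.stalk x) RX)]
  [Hensel.IsStrictHenselization (X.presheaf.stalk x) RX] (ψ : RS →+* RX) [IsLocalHom ψ]
  (hspec : Spec.map (CommRingCat.ofHom ψ) ≫ Hens2.specOf Y (g.base x) RS = Hens2.specOf X x RX ≫ g)

include hBC hspec in
set_option maxHeartbeats 1000000 in
/-- the comparison at a point of the strict localization -/
theorem bijective_point {Ω : Type u} [Field Ω] (gp : Spec (CommRingCat.of Ω) ⟶ Spec (CommRingCat.of RS))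
    (hgp : ∀ z : Ω, ∃ c, ptEval gp c ≠ 0 ∧ (ptEval gp).IsIntegralElem (ptEval gp c * z))
    (M : EtCoh.Ab Y) (hM : ∀ {Z : Scheme.{u}} (e : Z ⟶ Y), EtAcyc.IsLTorsion L ((EtCoh.pull e).obj M))
    (q : ℕ) (hq : q ≤ n) [PreservesFiniteLimits (EtCoh.pull (pullback.snd (Spec.map (CommRingCat.ofHom ψ)) gp))] :
    Function.Bijective (hVia (pullback.snd (Spec.map (CommRingCat.ofHom ψ)) gp)
      (gp ≫ Hens2.specOf Y (g.base x) RS)
      (pullback.snd (Spec.map (CommRingCat.ofHom ψ)) gp ≫ gp ≫ Hens2.specOf Y (g.base x) RS) rfl M q) := by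
  let π := Hens2.specOf Y (g.base x) RS
  let h := Spec.map (CommRingCat.ofHom ψ)
  obtain ⟨P⟩ := nonempty_etPres_specOf Y (g.base x) RS
  obtain ⟨hcone⟩ := nonempty_isLimit_overCone P gp (exhausts P gp hgp)
  haveI : IsFiltered (SysIdx P gp) := isFiltered_of_directed_le_nonempty _
  haveI : IsConnected (SysIdx P gp) := IsFiltered.isConnected _
  haveI : PreservesLimitsOfSize.{u, u} (Over.pullback h) := (Over.mapPullbackAdj h).rightAdjoint_preservesLimits
  let Xs := overStages P gp ⋙ Over.pullback h ⋙ Over.forget (Spec (CommRingCat.of RX))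
  let Ys := overStages P gp ⋙ Over.forget (Spec (CommRingCat.of RS))
  let cX : Cone Xs := (Over.pullback h ⋙ Over.forget (Spec (CommRingCat.of RX))).mapCone (overCone P gp)
  let cY : Cone Ys := (Over.forget (Spec (CommRingCat.of RS))).mapCone (overCone P gp)
  have hcX : IsLimit cX := isLimitOfPreserves (Over.pullback h ⋙ Over.forget (Spec (CommRingCat.of RX))) hcone
  have hcY : IsLimit cY := isLimitOfPreserves (Over.forget (Spec (CommRingCat.of RS))) hcone
  let hN : Xs ⟶ Ys :=
    { app := fun a => pullback.fst ((overStages P gp).obj a).hom h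
      naturality := fun a b m => pullback.lift_fst _ _ _ }
  have aY : ∀ a, IsAffine (Ys.obj a) := fun a => by
    haveI := P.affine (op a.unop.idx)
    exact inferInstanceAs (IsAffine (pullback a.unop.hom (P.leg (op a.unop.idx))))
  have aX : ∀ a, IsAffine (Xs.obj a) := fun a => by
    haveI := aY a
    haveI : IsAffine ((overStages P gp).obj a).left := aY a
    exact inferInstanceAs (IsAffine (pullback ((overStages P gp).obj a).hom h))
  have hYaff : ∀ ⦃a b : (SysIdx P gp)ᵒᵖ⦄ (m : a ⟶ b), IsAffineHom (Ys.map m) := fun a b m => by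
    haveI := aY a
    haveI := aY b
    exact isAffineHom_of_isAffine (Ys.map m)
  have hXaff : ∀ ⦃a b : (SysIdx P gp)ᵒᵖ⦄ (m : a ⟶ b), IsAffineHom (Xs.map m) := fun a b m => by
    haveI := aX a
    haveI := aX b
    exact isAffineHom_of_isAffine (Xs.map m)
  let hp : cX.pt ⟶ cY.pt := pullback.fst gp h
  haveI : PreservesFiniteLimits (EtCoh.pull hp) := pull_preservesFiniteLimits _
  haveI := pull_preservesFiniteLimits (pullback.fst gp h)
  have key : Function.Bijective (hVia (pullback.fst gp h) (gp ≫ π) (pullback.fst gp h ≫ gp ≫ π) rfl M q) :=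
    FibreAcyc.bijective_hVia_limit Xs Ys hXaff hYaff cX hcX cY hcY
      (fun a => haveI := aX a; inferInstance) (fun a => haveI := aX a; inferInstance)
      (fun a => haveI := aY a; inferInstance) (fun a => haveI := aY a; inferInstance)
      hN hp (fun a => (pullback.lift_fst _ _ _).symm)
      (fun i => ((overStages P gp).obj (op i)).hom ≫ π)
      (fun {i j} m => (Category.assoc _ _ _).symm.trans
        (congrArg (· ≫ π) (Over.w ((overStages P gp).map (homOfLE m).op)))) M (gp ≫ π)
      (fun i => (Category.assoc _ _ _).symm.trans (congrArg (· ≫ π) (Over.w ((overCone P gp).π.app (op i))))) q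
      (fun j => by
        intro _
        haveI := P.affine (op j.idx)
        let fS := pullback.fst j.hom (P.leg (op j.idx))
        let sS := pullback.snd j.hom (P.leg (op j.idx))
        let m := pullback.fst sS h
        haveI : PreservesFiniteLimits (EtCoh.pull m) := pull_preservesFiniteLimits _
        let qV : (P.V.obj (op j.idx)).left ⟶ Y := (P.V.obj (op j.idx)).hom
        let e₁ : Spec (CommRingCat.of j.piece) ⟶ Y := (j.imm ≫ j.finHom) ≫ qV
        have he : fS ≫ e₁ = sS ≫ π := (Category.assoc _ _ _).symm.trans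
          ((congrArg (· ≫ qV) pullback.condition).trans
            ((Category.assoc _ _ _).trans (congrArg (sS ≫ ·) (P.leg_hom (op j.idx)))))
        haveI : AlgebraicGeometry.Etale qV := (P.V.obj (op j.idx)).prop
        haveI := pull_preservesFiniteLimits
          (pullback.fst (pullback.snd (j.imm ≫ j.finHom) (P.leg (op j.idx))) (Spec.map (CommRingCat.ofHom ψ)))
        have hb : Function.Bijective (hVia m fS (m ≫ fS) rfl ((EtCoh.pull e₁).obj M) q) :=
          bijective_stage hBC x RS RX ψ hspec (T := (P.V.obj (op j.idx)).left) qV j.finHom j.imm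
            (P.leg (op j.idx)) (P.leg_hom _) _ (hM e₁) q hq
        haveI : IsIso (appOf (θPull m fS (m ≫ fS) rfl) ((EtCoh.pull e₁).obj M)) := by delta appOf; infer_instance
        haveI : IsIso (appOf (θPull m (sS ≫ π) (m ≫ sS ≫ π) rfl) M) := by delta appOf; infer_instance
        have h1 : Function.Bijective (EtCore.Hpull m ((EtCoh.pull fS).obj ((EtCoh.pull e₁).obj M)) q) :=
          (Function.Bijective.of_comp_iff' (hmap_bijective
            (appOf (θPull m fS (m ≫ fS) rfl) ((EtCoh.pull e₁).obj M)) q) _).1 hb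
        have h2 : Function.Bijective (EtCore.Hpull m ((EtCoh.pull (sS ≫ π)).obj M) q) :=
          UnitStalk.Hpull_bijective_of_iso m ((θPull fS e₁ (sS ≫ π) he).inv.app M) q h1
        exact (hmap_bijective (appOf (θPull m (sS ≫ π) (m ≫ sS ≫ π) rfl) M) q).comp h2)
  haveI := pull_preservesFiniteLimits (Iso.refl (Spec (CommRingCat.of Ω))).hom
  haveI := pull_preservesFiniteLimits (pullbackSymmetry h gp).hom
  haveI := pull_preservesFiniteLimits ((pullbackSymmetry h gp).hom ≫ pullback.fst gp h)
  refine (hVia_bijective_iff (pullback.fst gp h) (gp ≫ π) (pullback.fst gp h ≫ gp ≫ π) rfl (pullback.snd h gp)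
    (gp ≫ π) (pullback.snd h gp ≫ gp ≫ π) rfl (Iso.refl _) (pullbackSymmetry h gp) (Category.id_comp _) ?_ ?_
    M q).1 key
  · rw [← Category.assoc, pullbackSymmetry_hom_comp_fst]
  · rw [pullbackSymmetry_hom_comp_fst]
    exact (Category.comp_id _).symm

include hBC hspec in
/-- the geometric fibres of the strict localization -/
theorem geomFibres (hL : ∃ ℓ ∈ L, ℓ.Prime) : EtAcyc.GeomFibresAcyclicN L n (Spec.map (CommRingCat.ofHom ψ)) := by
  intro t Ω _ _ _ _
  let h := Spec.map (CommRingCat.ofHom ψ)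
  let gp := EtAcyc.geomPt (Spec (CommRingCat.of RS)) t Ω
  let gY := gp ≫ Hens2.specOf Y (g.base x) RS
  haveI := pull_preservesFiniteLimits (pullback.snd h gp)
  haveI := pull_preservesFiniteLimits gY
  have hbij : ∀ ℓ : ℕ, ℓ.Prime → ℓ ∈ L → ∀ q ≤ n, Function.Bijective
      (EtCore.Hpull (pullback.snd h gp) (EtCoh.const (Spec (CommRingCat.of Ω)) (ZMod ℓ)) q) := by
    intro ℓ hℓ hℓL q hq
    let M := EtCoh.const Y (ZMod ℓ)
    have hM : ∀ {Z : Scheme.{u}} (e : Z ⟶ Y), EtAcyc.IsLTorsion L ((EtCoh.pull e).obj M) := fun {Z} e W s x => by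
      refine ⟨W, 𝟙 W, ℓ, ⟨x, rfl⟩, ⟨hℓ.pos, fun p hp hpd => ((Nat.prime_dvd_prime_iff_eq hp hℓ).1 hpd) ▸ hℓL⟩, ?_⟩
      rw [op_id, CategoryTheory.Functor.map_id]
      refine EtBC.killedBy_pull e ?_ W s
      haveI : (constantSheaf Y.smallEtaleTopology AddCommGrpCat.{u + 1}).Additive :=
        (EtCore.constAdj Y).left_adjoint_additive
      rw [EtFound.killedBy_iff_nsmul]
      have h0 : ℓ • 𝟙 (AddCommGrpCat.of (ULift.{u + 1} (ZMod ℓ))) = 0 := by
        ext a
        simp
      show ℓ • 𝟙 ((constantSheaf Y.smallEtaleTopology AddCommGrpCat.{u + 1}).obj _) = 0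
      rw [← CategoryTheory.Functor.map_id, ← Functor.map_nsmul, h0, Functor.map_zero]
    have h1 := bijective_point hBC x RS RX ψ hspec gp (exists_integral_multiple t Ω) M hM q hq
    haveI : IsIso (appOf (θPull (pullback.snd h gp) gY (pullback.snd h gp ≫ gY) rfl) M) := by
      delta appOf; infer_instance
    have h2 : Function.Bijective (EtCore.Hpull (pullback.snd h gp) ((EtCoh.pull gY).obj M) q) :=
      (Function.Bijective.of_comp_iff' (hmap_bijective
        (appOf (θPull (pullback.snd h gp) gY (pullback.snd h gp ≫ gY) rfl) M) q) _).1 h1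
    exact UnitStalk.Hpull_bijective_of_iso (pullback.snd h gp) (EtCore.pullConst gY (ZMod ℓ)).inv q h2
  obtain ⟨ℓ, hℓL, hℓ⟩ := hL
  haveI : Fact ℓ.Prime := ⟨hℓ⟩
  obtain ⟨hne, hconn⟩ := FibreAcyc.nonempty_connectedSpace Ω (pullback.snd h gp) (ZMod ℓ)
    (hbij ℓ hℓ hℓL 0 (Nat.zero_le n))
  refine ⟨hne, hconn, fun p hp hpL q hq1 hqn => ?_⟩
  haveI : HenselianLocalRing Ω := inferInstance
  haveI : IsSepClosed (IsLocalRing.ResidueField Ω) := by
    refine IsSepClosed.of_exists_root _ fun f hm hi hs => ?_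
    let e := RingEquiv.ofBijective (IsLocalRing.residue Ω)
      ⟨(IsLocalRing.residue Ω).injective, IsLocalRing.residue_surjective⟩
    obtain ⟨x, hx⟩ := IsSepClosed.exists_root (f.map (e.symm : _ →+* Ω))
      (by rw [Polynomial.degree_map]; exact hi.degree_pos.ne') (hs.map)
    refine ⟨e x, ?_⟩
    have := congrArg e hx
    have h2 := Polynomial.hom_eval₂ f e.symm.toRingHom e.toRingHom x
    rw [Polynomial.eval_map] at this
    rw [show e.toRingHom.comp e.symm.toRingHom = RingHom.id _ from RingHom.ext e.apply_symm_apply] at h2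
    rw [map_zero] at this
    exact h2.symm.trans this
  haveI := S0073.result Ω (EtCoh.const (Spec (CommRingCat.of Ω)) (ZMod p)) q hq1
  haveI := (hbij p hp hpL q hqn).2.subsingleton
  exact (EtBC.hmap_bijective (EtCore.pullConst (pullback.snd h gp) (ZMod p)).hom q).2.subsingleton

end Groth.Agent.AcycBase
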