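import Groth.Agent.AcycBase.EdgeExt
import Groth.Agent.GenAcyc.Main
import Groth.Agent.GabberAff13.Proper
import Groth.Agent.AcycCover.Strict
import Groth.Agent.AcycCover.StrictMap
import Groth.Agent.S8534

/-!
# Geometric fibres of proper locally acyclic schemes over strictly henselian bases
-/

set_option autoImplicit false
set_option linter.style.haveILetI false
universe u

open CategoryTheory CategoryTheory.Limits AlgebraicGeometry Opposite IsLocalRing CategoryTheory.Abelian

namespace Groth.Agent.AcycBase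

open Groth.Agent.EtLimit Groth.Agent.EtFound Groth.Agent.EtBC

set_option backward.isDefEq.respectTransparency.types false

theorem isTorsion_of_isLTorsion {X : Scheme.{u}} {L : Set ℕ} {F : EtCoh.Ab X} (hF : EtAcyc.IsLTorsion L F) :
    EtCoh.IsTorsion F := fun U s x => by
  obtain ⟨V, g, m, hv, hm, h0⟩ := hF U s x
  exact ⟨V, g, hv, isOfFinAddOrder_iff_nsmul_eq_zero.2 ⟨m, hm.1, h0⟩⟩

variable {R : Type u} [CommRing R] [HenselianLocalRing R] [IsSepClosed (ResidueField R)] {X : Scheme.{u}}
  (f : X ⟶ Spec (CommRingCat.of R)) {L : Set ℕ} (hL : ∃ ℓ ∈ L, ℓ.Prime) {n : ℕ}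
  (hf : EtAcyc.IsLocAcyclicN f L n) (F : EtCoh.Ab X) (hF : EtAcyc.IsLTorsion L F) (hlc : EtRest.IsLocallyConstant F)
  (y : Spec (CommRingCat.of R)) (Ω : Type u) [Field Ω] [IsSepClosed Ω]
  [Algebra ((Spec (CommRingCat.of R)).residueField y) Ω]
  [Algebra.IsAlgebraic ((Spec (CommRingCat.of R)).residueField y) Ω]

include hL hf hF hlc in
set_option maxHeartbeats 1000000 in
/-- the pullback to the geometric fibre of a strict localization at a point of the closed fibre -/
theorem bijective_geomFibre_strict (v : X) (hv : f.base v = closedPoint R) (RV : Type u) [CommRing RV] [IsLocalRing RV]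
    [Algebra (X.presheaf.stalk v) RV] [IsLocalHom (algebraMap (X.presheaf.stalk v) RV)]
    [hRV : Hensel.IsStrictHenselization (X.presheaf.stalk v) RV]
    [PreservesFiniteLimits (EtCoh.pull (pullback.snd (pullback.fst f (EtAcyc.geomPt (Spec (CommRingCat.of R)) y Ω))
      (Hens2.specOf X v RV)))] (q : ℕ) (hq : q ≤ n) :
    Function.Bijective (hVia
      (pullback.snd (pullback.fst f (EtAcyc.geomPt (Spec (CommRingCat.of R)) y Ω)) (Hens2.specOf X v RV))
      (Hens2.specOf X v RV)
      (pullback.fst (pullback.fst f (EtAcyc.geomPt (Spec (CommRingCat.of R)) y Ω)) (Hens2.specOf X v RV) ≫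
        pullback.fst f (EtAcyc.geomPt (Spec (CommRingCat.of R)) y Ω)) pullback.condition.symm F q) := by
  let gp := EtAcyc.geomPt (Spec (CommRingCat.of R)) y Ω
  let h := pullback.fst f gp
  let π := Hens2.specOf X v RV
  let b := pullback.snd h π
  let G := (EtCoh.pull π).obj F
  haveI := hRV.henselian
  haveI := hRV.isSepClosure.sep_closed
  obtain ⟨a1, a2, a3, ha⟩ := AcycCover.exists_self_strict (R := R)
  obtain ⟨c1, c2, c3, hc⟩ := IndEtStrict.strict_congr hv.symm R (𝟙 _) ⟨a1, a2, a3, ha.symm⟩
  letI := c1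
  haveI := c2
  haveI := c3
  obtain ⟨ψ, _, hψ⟩ := AcycCover.exists_strictMap f v R RV
  let hvm := Spec.map (CommRingCat.ofHom ψ)
  have e : hvm ≫ Hens2.specOf (Spec (CommRingCat.of R)) (f.base v) R = π ≫ f := specOf_map v R RV ψ hψ
  have e' : hvm = π ≫ f := (Category.comp_id _).symm.trans ((congrArg (hvm ≫ ·) hc).trans e)
  have hac0 : EtAcyc.IsAcyclicN hvm L n :=
    AcycCover.onStrictLocalizations_apply f hf v (f.base v) rfl R RV ψ e
  suffices hb : Function.Bijective (EtCore.Hpull b G q) by
    haveI : IsIso (appOf (θPull b π (pullback.fst h π ≫ h) pullback.condition.symm) F) := by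
      delta appOf; infer_instance
    exact (hmap_bijective (appOf (θPull b π (pullback.fst h π ≫ h) pullback.condition.symm) F) q).comp hb
  have hac : EtAcyc.IsAcyclicSchemeN L n (pullback h π) := by
    have sq : IsPullback b (pullback.fst h π ≫ pullback.snd f gp) hvm gp := by
      rw [e']
      exact (IsPullback.of_hasPullback h π).flip.paste_vert (IsPullback.of_hasPullback f gp)
    exact AcycCover.isAcyclicSchemeN_of_iso sq.isoPullback (S8534.result hvm L hL n hac0 y Ω)
  haveI := hac.1
  haveI := hac.2.1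
  obtain ⟨A, ⟨i⟩⟩ := GenAcyc.exists_iso_const hlc RV π
  haveI : ConnectedSpace (Spec (CommRingCat.of RV)) := GenAcyc.connectedSpace_specLocal RV
  obtain _ | p := q
  · exact UnitStalk.Hpull_bijective_of_iso b i.inv 0 (GenAcyc.const_Hpull_zero_bijective b A)
  · -- both sides vanish
    haveI h1 : Subsingleton (EtCoh.H (Spec (CommRingCat.of RV)) G (p + 1)) := S0073.result RV G (p + 1) (by omega)
    haveI : QuasiCompact h := MorphismProperty.pullback_fst _ _ inferInstance
    haveI : QuasiSeparated h := MorphismProperty.pullback_fst _ _ inferInstance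
    haveI : QuasiCompact b := MorphismProperty.pullback_snd _ _ inferInstance
    haveI : QuasiSeparated b := MorphismProperty.pullback_snd _ _ inferInstance
    haveI : CompactSpace ↥(pullback h π) := QuasiCompact.compactSpace_of_compactSpace b
    haveI : QuasiSeparatedSpace ↥(pullback h π) := quasiSeparatedSpace_of_quasiSeparated b
    let hη : pullback h π ⟶ Spec (CommRingCat.of Ω) := pullback.fst h π ≫ pullback.snd f gp
    haveI : PreservesFiniteLimits (EtCoh.pull hη) := pull_preservesFiniteLimits _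
    let CK := (constantSheaf (Spec (CommRingCat.of Ω)).smallEtaleTopology AddCommGrpCat.{u + 1}).obj A
    have htor : EtAcyc.IsLTorsion L CK := GenAcyc.isLTorsion_const _ A fun a => GenAcyc.primesIn_of_isLTorsion A
      (isLTorsion_of_iso i.symm (isLTorsion_pull π L hF)) a
    haveI := (AcycCover.goodCoeff_of_isAcyclicScheme hη L hac CK htor).2 (p + 1) (by omega) hq
    let e'' : (EtCoh.pull b).obj G ≅ (EtCoh.pull hη).obj CK :=
      (EtCoh.pull b).mapIso i.symm ≪≫ (EtCore.pullConstIso b).app A ≪≫ ((EtCore.pullConstIso hη).app A).symm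
    haveI h2 : Subsingleton (EtCoh.H (pullback h π) ((EtCoh.pull b).obj G) (p + 1)) :=
      (hmap_bijective e''.hom (p + 1)).1.subsingleton
    exact ⟨fun z z' _ => Subsingleton.elim (α := EtCoh.H (Spec (CommRingCat.of RV)) G (p + 1)) z z', fun z => ⟨0,
      Subsingleton.elim (α := EtCoh.H (pullback h π) ((EtCoh.pull b).obj G) (p + 1)) _ z⟩⟩

include hL hf hF hlc in
set_option maxHeartbeats 1000000 in
/-- the pullback to the geometric fibre -/
theorem Hpull_geomFibre [IsProper f]
    [PreservesFiniteLimits (EtCoh.pull (pullback.fst f (EtAcyc.geomPt (Spec (CommRingCat.of R)) y Ω)))] :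
    (∀ q : ℕ, q ≤ n →
      Function.Bijective (EtCore.Hpull (pullback.fst f (EtAcyc.geomPt (Spec (CommRingCat.of R)) y Ω)) F q)) ∧
    Function.Injective (EtCore.Hpull (pullback.fst f (EtAcyc.geomPt (Spec (CommRingCat.of R)) y Ω)) F (n + 1)) := by
  let h := pullback.fst f (EtAcyc.geomPt (Spec (CommRingCat.of R)) y Ω)
  haveI : QuasiCompact h := MorphismProperty.pullback_fst _ _ inferInstance
  haveI : QuasiSeparated h := MorphismProperty.pullback_fst _ _ inferInstance
  let s := Spec.map (CommRingCat.ofHom (residue R))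
  let i₀ := pullback.fst f s
  haveI : PreservesFiniteLimits (EtCoh.pull i₀) := pull_preservesFiniteLimits _
  have hpt : ∀ (K : Type u) [Field K] [IsSepClosed K] (ξ : Spec (CommRingCat.of K) ⟶ pullback f s)
      (v : X) (RV : Type u) [CommRing RV] [IsLocalRing RV] [Algebra (X.presheaf.stalk v) RV]
      [IsLocalHom (algebraMap (X.presheaf.stalk v) RV)] (τ : ResidueField RV →+* K),
      resPt RV τ ≫ Hens2.specOf X v RV = ξ ≫ i₀ → f.base v = closedPoint R := by
    intro K _ _ ξ v RV _ _ _ _ τ hξ
    let z : Spec (CommRingCat.of K) := closedPoint K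
    have h1 : (resPt RV τ ≫ Hens2.specOf X v RV) z = v := by
      rw [Scheme.Hom.comp_apply]
      erw [resPt_base]
      exact UnitStalk.specMap_closed v _
    have h2 : (ξ ≫ i₀ ≫ f) z = closedPoint R := by
      rw [show i₀ ≫ f = pullback.snd f s ≫ s from pullback.condition, Scheme.Hom.comp_apply, Scheme.Hom.comp_apply]
      have hl : (pullback.snd f s) (ξ z) = closedPoint (ResidueField R) := Subsingleton.elim _ _
      rw [hl]
      exact IsLocalRing.comap_closedPoint (residue R)
    rw [← h2, ← Category.assoc, ← hξ, Scheme.Hom.comp_apply, h1]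
  let η := (EtCoh.pullPushAdj h).unit.app F
  have hη : IsIso ((EtCoh.pull i₀).map η) := EtFound.isIso_of_stalks _ fun K iK iS ξ => by
    obtain ⟨v, RV, _, _, _, _, hRV, τ, hξ⟩ := exists_strict_point (ξ ≫ i₀)
    have hv := hpt K ξ v RV τ hξ
    haveI := hRV.henselian
    haveI := hRV.isSepClosure.sep_closed
    obtain ⟨P⟩ := nonempty_etPres_specOf X v RV
    haveI := pull_preservesFiniteLimits (pullback.snd h (Hens2.specOf X v RV))
    haveI := UnitStalk.isIso_stalk_unit h P (liftsUniquely_strict RV _ _ (resPt_base RV τ)) F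
      (bijective_geomFibre_strict f hL hf F hF hlc y Ω v hv RV 0 (Nat.zero_le _))
    haveI : IsIso ((EtCoh.stalk (ξ ≫ i₀)).map η) := by
      rw [← hξ]
      infer_instance
    exact (ConcreteCategory.isIso_iff_bijective ((EtCoh.stalk ξ).map ((EtCoh.pull i₀).map η))).1
      ((NatIso.isIso_map_iff (stalkPullIso i₀ ξ) η).2 inferInstance)
  have hz : ∀ q, 1 ≤ q → q ≤ n →
      IsZero ((EtCoh.pull i₀).obj ((EtCoh.Rpush h q).obj ((EtCoh.pull h).obj F))) := fun q h1 hqn =>
    (isZero_iff_stalks _).2 fun K iK iS ξ => by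
      obtain ⟨v, RV, _, _, _, _, hRV, τ, hξ⟩ := exists_strict_point (ξ ≫ i₀)
      have hv := hpt K ξ v RV τ hξ
      haveI := hRV.henselian
      haveI := hRV.isSepClosure.sep_closed
      obtain ⟨P⟩ := nonempty_etPres_specOf X v RV
      haveI := pull_preservesFiniteLimits (pullback.snd h (Hens2.specOf X v RV))
      have hzz := UnitStalk.isZero_stalk_Rpush h P (liftsUniquely_strict RV _ _ (resPt_base RV τ)) F q h1
        (bijective_geomFibre_strict f hL hf F hF hlc y Ω v hv RV q hqn)
      rw [hξ] at hzz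
      exact hzz.of_iso ((stalkPullIso i₀ ξ).app _)
  have hFh : EtAcyc.IsLTorsion L ((EtCoh.pull h).obj F) := isLTorsion_pull h L hF
  have hv : ∀ q, 1 ≤ q → q ≤ n →
      AllExtZero.{u + 1} (EtCoh.const X ℤ) ((EtCoh.Rpush h q).obj ((EtCoh.pull h).obj F)) := fun q h1 hqn p => by
    haveI : Subsingleton (EtCoh.H (pullback f s)
        ((EtCoh.pull i₀).obj ((EtCoh.Rpush h q).obj ((EtCoh.pull h).obj F))) p) :=
      AddCommGrpCat.subsingleton_of_isZero ((EtCoh.HF _ p).map_isZero (hz q h1 hqn))
    exact (GabberAff13.bijective_Hpull_closedFibre R f _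
      (isTorsion_of_isLTorsion (S8560.result h L _ hFh q)) p).1.subsingleton
  haveI := EtFound.push_preservesFiniteLimits h
  obtain ⟨hb, hi⟩ := edge_bijective_of_allExtZero (EtCoh.pullPushAdj h) n ((EtCoh.pull h).obj F)
    (EtCoh.const X ℤ) hv
  have hpost : ∀ q, Function.Bijective (hmap η q) := fun q => by
    have htor : EtCoh.IsTorsion ((EtCoh.push h).obj ((EtCoh.pull h).obj F)) := isTorsion_of_isLTorsion
      (isLTorsion_of_iso ((EtCoh.push h).rightDerivedZeroIsoSelf.app _) (S8560.result h L _ hFh 0))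
    have b1 := GabberAff13.bijective_Hpull_closedFibre R f F (isTorsion_of_isLTorsion hF) q
    have b2 := GabberAff13.bijective_Hpull_closedFibre R f _ htor q
    haveI := hη
    have e : EtCore.Hpull i₀ ((EtCoh.push h).obj ((EtCoh.pull h).obj F)) q ∘ hmap η q =
        hmap ((EtCoh.pull i₀).map η) q ∘ EtCore.Hpull i₀ F q := funext fun z => by
      show EtCore.Hpull i₀ _ q (hmap η q z) = hmap ((EtCoh.pull i₀).map η) q (EtCore.Hpull i₀ F q z)
      rw [← hThen_id, ← hThen_id]
      exact HpullThen_hmap i₀ (𝟙 _) (𝟙 _) η _ ((Category.comp_id _).trans (Category.id_comp _).symm) q z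
    have hc : Function.Bijective (EtCore.Hpull i₀ ((EtCoh.push h).obj ((EtCoh.pull h).obj F)) q ∘ hmap η q) := by
      rw [e]
      exact (hmap_bijective ((EtCoh.pull i₀).map η) q).comp b1
    exact (Function.Bijective.of_comp_iff' b2 _).1 hc
  have hfun : ∀ q, (EtCore.Hpull h F q : _ → _) =
      ((fun z => (Ext.mk₀ (EtCore.pullConst h ℤ).inv).comp z (zero_add q)) ∘
        EtFound.edge (EtCoh.pullPushAdj h) (EtCoh.const X ℤ) ((EtCoh.pull h).obj F) q) ∘
          fun x => x.comp (Ext.mk₀ η) (add_zero q) := fun q => funext fun x => by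
    show (Ext.mk₀ (EtCore.pullConst h ℤ).inv).comp (x.mapExactFunctor (EtCoh.pull h)) (zero_add q) =
      (Ext.mk₀ (EtCore.pullConst h ℤ).inv).comp (EtFound.edge _ _ _ q _) (zero_add q)
    rw [EtFound.edge_apply, Ext.mapExactFunctor_comp, Ext.mapExactFunctor_mk₀,
      Ext.comp_assoc_of_third_deg_zero, Ext.mk₀_comp_mk₀]
    erw [Adjunction.left_triangle_components]
    rw [Ext.comp_mk₀_id]
  have hpre : ∀ q, Function.Bijective (fun z : Ext.{u + 1} ((EtCoh.pull h).obj (EtCoh.const X ℤ))
      ((EtCoh.pull h).obj F) q => (Ext.mk₀ (EtCore.pullConst h ℤ).inv).comp z (zero_add q)) :=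
    fun q => EtFound.precomp_bijective _ _
  refine ⟨fun q hq => ?_, ?_⟩
  · rw [hfun q]
    exact ((hpre q).comp (hb q hq)).comp (hpost q)
  · rw [hfun (n + 1)]
    exact ((hpre _).1.comp hi).comp (hpost _).1

end Groth.Agent.AcycBase
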