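import Groth.Agent.EtLimit.StrictSys
import Groth.Prelude.Def_EtAcyc
import Mathlib.AlgebraicGeometry.AffineTransitionLimit
import Mathlib.AlgebraicGeometry.Morphisms.Finite
import Mathlib.CategoryTheory.Limits.Constructions.Over.Connected
import Mathlib.RingTheory.IntegralClosure.IsIntegralClosure.Basic
import Mathlib.RingTheory.Localization.Integral

/-!
# A geometric point of a limit of affine étale schemes as a limit of open pieces of finite schemes
-/

set_option autoImplicit false
set_option linter.style.haveILetI false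
universe u

open CategoryTheory CategoryTheory.Limits AlgebraicGeometry Opposite

namespace Groth.Agent.AcycBase

open Groth.Agent.EtLimit

set_option backward.isDefEq.respectTransparency.types false

variable {S T : Scheme.{u}} {π : T ⟶ S} (P : EtPres π) {Ω : Type u} [Field Ω]
  (gp : Spec (CommRingCat.of Ω) ⟶ T)

/-- the stage ring -/
abbrev stRing (a : P.ι) : Type u := Γ((P.V.obj (op a)).left, ⊤)

/-- the value at the point -/
noncomputable def ptEval : Γ(T, ⊤) →+* Ω := (gp.appTop ≫ (Scheme.ΓSpecIso (CommRingCat.of Ω)).hom).hom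

/-- the value at the point of a function on a stage -/
noncomputable def stEval (a : P.ι) : stRing P a →+* Ω := (ptEval gp).comp (P.leg (op a)).appTop.hom

/-- the transition -/
noncomputable def stMap {a b : P.ι} (m : a ≤ b) : stRing P a →+* stRing P b :=
  ((P.V.map (homOfLE m).op).left).appTop.hom

theorem stEval_stMap {a b : P.ι} (m : a ≤ b) (c : stRing P a) :
    stEval P gp b (stMap P m c) = stEval P gp a c := by
  show ptEval gp ((P.leg (op b)).appTop ((P.V.map (homOfLE m).op).left.appTop c)) =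
    ptEval gp ((P.leg (op a)).appTop c)
  rw [← P.leg_map (homOfLE m).op, Scheme.Hom.comp_appTop]
  rfl

theorem isIntegralElem_mono {a b : P.ι} (m : a ≤ b) {x : Ω} (h : (stEval P gp a).IsIntegralElem x) :
    (stEval P gp b).IsIntegralElem x := by
  obtain ⟨p, hp, hx⟩ := h
  refine ⟨p.map (stMap P m), hp.map _, ?_⟩
  rw [Polynomial.eval₂_map, show (stEval P gp b).comp (stMap P m) = stEval P gp a from
    RingHom.ext fun c => stEval_stMap P gp m c, hx]

/-- the pieces -/
structure SysIdx where
  idx : P.ι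
  den : stRing P idx
  den_ne : stEval P gp idx den ≠ 0
  gens : Finset Ω
  integral : ∀ x ∈ gens, (stEval P gp idx).IsIntegralElem (stEval P gp idx den * x)

variable {P gp} (j : SysIdx P gp)

/-- the denominator -/
noncomputable abbrev SysIdx.d : Ω := stEval P gp j.idx j.den

/-- the finite algebra -/
noncomputable def SysIdx.fin : Subring Ω :=
  Subring.closure (Set.range (stEval P gp j.idx) ∪ (j.d * ·) '' j.gens)

theorem SysIdx.eval_mem (c : stRing P j.idx) : stEval P gp j.idx c ∈ j.fin :=
  Subring.subset_closure (Or.inl ⟨c, rfl⟩)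

theorem SysIdx.d_mem : j.d ∈ j.fin := j.eval_mem j.den

/-- the open piece -/
noncomputable def SysIdx.piece : Subring Ω where
  carrier := {x | ∃ k : ℕ, j.d ^ k * x ∈ j.fin}
  one_mem' := ⟨0, by rw [pow_zero, one_mul]; exact j.fin.one_mem⟩
  zero_mem' := ⟨0, by rw [pow_zero, one_mul]; exact j.fin.zero_mem⟩
  mul_mem' := by
    rintro x y ⟨k, hk⟩ ⟨l, hl⟩
    refine ⟨k + l, ?_⟩
    rw [pow_add, mul_mul_mul_comm]
    exact j.fin.mul_mem hk hl
  add_mem' := by
    rintro x y ⟨k, hk⟩ ⟨l, hl⟩
    refine ⟨k + l, ?_⟩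
    rw [mul_add]
    refine j.fin.add_mem ?_ ?_
    · rw [pow_add, mul_right_comm]
      exact j.fin.mul_mem hk (j.fin.pow_mem j.d_mem l)
    · rw [pow_add, mul_assoc]
      exact j.fin.mul_mem (j.fin.pow_mem j.d_mem k) hl
  neg_mem' := by
    rintro x ⟨k, hk⟩
    exact ⟨k, by rw [mul_neg]; exact j.fin.neg_mem hk⟩

theorem SysIdx.fin_le : j.fin ≤ j.piece := fun x hx => ⟨0, by rwa [pow_zero, one_mul]⟩

theorem SysIdx.inv_mem : j.d⁻¹ ∈ j.piece :=
  ⟨1, by rw [pow_one, mul_inv_cancel₀ j.den_ne]; exact j.fin.one_mem⟩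

theorem SysIdx.gens_mem {x : Ω} (hx : x ∈ j.gens) : x ∈ j.piece :=
  ⟨1, by rw [pow_one]; exact Subring.subset_closure (Or.inr ⟨x, hx, rfl⟩)⟩

theorem SysIdx.piece_le {k : SysIdx P gp} (m : j.idx ≤ k.idx) (hd : j.d⁻¹ ∈ k.piece)
    (hs : ∀ x ∈ j.gens, x ∈ k.piece) : j.piece ≤ k.piece := by
  have hr : ∀ c, stEval P gp j.idx c ∈ k.piece := fun c => k.fin_le (stEval_stMap P gp m c ▸ k.eval_mem _)
  have hf : j.fin ≤ k.piece := by
    refine Subring.closure_le.2 ?_
    rintro _ (⟨c, rfl⟩ | ⟨x, hx, rfl⟩)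
    · exact hr c
    · exact k.piece.mul_mem (hr j.den) (hs x hx)
  rintro x ⟨n, hn⟩
  have e : x = j.d⁻¹ ^ n * (j.d ^ n * x) := by
    rw [← mul_assoc, ← mul_pow, inv_mul_cancel₀ j.den_ne, one_pow, one_mul]
  rw [e]
  exact k.piece.mul_mem (k.piece.pow_mem hd n) (hf hn)

instance : Preorder (SysIdx P gp) where
  le j k := j.idx ≤ k.idx ∧ j.piece ≤ k.piece
  le_refl j := ⟨le_rfl, le_rfl⟩
  le_trans _ _ _ h h' := ⟨h.1.trans h'.1, h.2.trans h'.2⟩

variable (P gp) in
/-- the index with no generators -/
noncomputable def SysIdx.base (a : P.ι) : SysIdx P gp :=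
  ⟨a, 1, by rw [map_one]; exact one_ne_zero, ∅, by simp⟩

instance : Nonempty (SysIdx P gp) := ⟨SysIdx.base P gp (Classical.arbitrary P.ι)⟩

instance : IsDirected (SysIdx P gp) (· ≤ ·) := ⟨fun j k => by
  classical
  obtain ⟨c, hjc, hkc⟩ := exists_ge_ge j.idx k.idx
  let d₁ := stMap P hjc j.den
  let d₂ := stMap P hkc k.den
  have h₁ : stEval P gp c d₁ = j.d := stEval_stMap P gp hjc _
  have h₂ : stEval P gp c d₂ = k.d := stEval_stMap P gp hkc _
  let l : SysIdx P gp :=
    { idx := c
      den := d₁ * d₂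
      den_ne := by
        rw [map_mul, h₁, h₂]
        exact mul_ne_zero j.den_ne k.den_ne
      gens := j.gens ∪ k.gens
      integral := fun x hx => by
        rcases Finset.mem_union.1 hx with hx | hx
        · have e : stEval P gp c (d₁ * d₂) * x = stEval P gp c d₂ * (j.d * x) := by
            rw [map_mul, ← h₁]; ring
          rw [e]
          exact RingHom.IsIntegralElem.mul _ ((stEval P gp c).isIntegralElem_map)
            (isIntegralElem_mono P gp hjc (j.integral x hx))
        · have e : stEval P gp c (d₁ * d₂) * x = stEval P gp c d₁ * (k.d * x) := by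
            rw [map_mul, ← h₂]; ring
          rw [e]
          exact RingHom.IsIntegralElem.mul _ ((stEval P gp c).isIntegralElem_map)
            (isIntegralElem_mono P gp hkc (k.integral x hx)) }
  have hl : l.d = j.d * k.d := by show stEval P gp c (d₁ * d₂) = _; rw [map_mul, h₁, h₂]
  refine ⟨l, ⟨hjc, j.piece_le hjc ?_ fun x hx => l.gens_mem (Finset.mem_union_left _ hx)⟩,
    ⟨hkc, k.piece_le hkc ?_ fun x hx => l.gens_mem (Finset.mem_union_right _ hx)⟩⟩
  · have : j.d⁻¹ = k.d * l.d⁻¹ := by rw [hl, mul_inv_rev, ← mul_assoc, mul_inv_cancel₀ k.den_ne, one_mul]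
    rw [this, ← h₂]
    exact l.piece.mul_mem (l.fin_le (l.eval_mem _)) l.inv_mem
  · have : k.d⁻¹ = j.d * l.d⁻¹ := by
      rw [hl, mul_inv_rev, mul_left_comm, mul_inv_cancel₀ j.den_ne, mul_one]
    rw [this, ← h₁]
    exact l.piece.mul_mem (l.fin_le (l.eval_mem _)) l.inv_mem⟩

/-- the structure map of the finite algebra -/
noncomputable def SysIdx.toFin : stRing P j.idx →+* j.fin := (stEval P gp j.idx).codRestrict _ j.eval_mem

theorem SysIdx.toFin_finite : j.toFin.Finite := by
  letI : Algebra (stRing P j.idx) Ω := (stEval P gp j.idx).toAlgebra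
  let B := Algebra.adjoin (stRing P j.idx) ((j.d * ·) '' (j.gens : Set Ω))
  haveI : Module.Finite (stRing P j.idx) B := Module.Finite.iff_fg.2
    (fg_adjoin_of_finite (j.gens.finite_toSet.image _) (by
      rintro _ ⟨x, hx, rfl⟩
      exact j.integral x hx))
  have e : B.toSubring = j.fin := Algebra.adjoin_eq_ring_closure _
  let v : B →+* j.fin := B.val.toRingHom.codRestrict _ fun b => e ▸ (b.2 : b.1 ∈ B.toSubring)
  have hv : Function.Surjective v := fun y => ⟨⟨y.1, (e.symm ▸ y.2 : y.1 ∈ B.toSubring)⟩, rfl⟩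
  have : j.toFin = v.comp (algebraMap (stRing P j.idx) B) := RingHom.ext fun c => Subtype.ext rfl
  rw [this]
  exact (RingHom.Finite.of_surjective _ hv).comp (RingHom.finite_algebraMap.2 ‹_›)

/-- the inclusion of the finite algebra -/
noncomputable def SysIdx.incl : j.fin →+* j.piece := Subring.inclusion j.fin_le

theorem SysIdx.isLocalization : letI := j.incl.toAlgebra
    IsLocalization.Away (j.toFin j.den) j.piece := by
  letI := j.incl.toAlgebra
  refine IsLocalization.Away.mk _ ?_ (fun z => ?_) fun a b h => ⟨0, ?_⟩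
  · exact IsUnit.of_mul_eq_one ⟨j.d⁻¹, j.inv_mem⟩ (Subtype.ext (mul_inv_cancel₀ j.den_ne))
  · obtain ⟨n, hn⟩ := z.2
    exact ⟨n, ⟨_, hn⟩, Subtype.ext (mul_comm _ _)⟩
  · rw [pow_zero, one_mul, one_mul]
    have h' := congrArg (fun z : j.piece => z.1) h
    exact Subtype.ext h'

/-- the open immersion of a piece in the finite scheme -/
noncomputable def SysIdx.imm : Spec (CommRingCat.of j.piece) ⟶ Spec (CommRingCat.of j.fin) :=
  Spec.map (CommRingCat.ofHom j.incl)

instance : IsOpenImmersion j.imm := by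
  letI := j.incl.toAlgebra
  haveI := j.isLocalization
  exact IsOpenImmersion.of_isLocalization (R := j.fin) (S := j.piece) (j.toFin j.den)

instance : QuasiCompact j.imm := by
  haveI : IsAffineHom j.imm := isAffineHom_of_isAffine _
  infer_instance

/-- the finite scheme over the stage -/
noncomputable def SysIdx.finHom : Spec (CommRingCat.of j.fin) ⟶ (P.V.obj (op j.idx)).left :=
  haveI := P.affine (op j.idx)
  Spec.map (CommRingCat.ofHom j.toFin) ≫ (P.V.obj (op j.idx)).left.isoSpec.inv

instance : IsFinite j.finHom := by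
  haveI := P.affine (op j.idx)
  haveI : IsFinite (Spec.map (CommRingCat.ofHom j.toFin)) := (IsFinite.SpecMap_iff _).2 j.toFin_finite
  delta SysIdx.finHom
  infer_instance

theorem spec_stEval (a : P.ι) : haveI := P.affine (op a)
    Spec.map (CommRingCat.ofHom (stEval P gp a)) ≫ (P.V.obj (op a)).left.isoSpec.inv = gp ≫ P.leg (op a) := by
  haveI := P.affine (op a)
  have e : CommRingCat.ofHom (stEval P gp a) =
      (gp ≫ P.leg (op a)).appTop ≫ (Scheme.ΓSpecIso (CommRingCat.of Ω)).hom := by
    rw [Scheme.Hom.comp_appTop, Category.assoc]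
    rfl
  rw [e, Spec.map_comp, Category.assoc, Scheme.isoSpec_inv_naturality, Scheme.isoSpec_Spec_inv, ← Category.assoc,
    ← Spec.map_comp, Iso.inv_hom_id, Spec.map_id, Category.id_comp]

/-- the structure morphism of a piece -/
noncomputable def SysIdx.hom : Spec (CommRingCat.of j.piece) ⟶ (P.V.obj (op j.idx)).left := j.imm ≫ j.finHom

theorem SysIdx.subtype_hom :
    Spec.map (CommRingCat.ofHom j.piece.subtype) ≫ j.hom = gp ≫ P.leg (op j.idx) := by
  haveI := P.affine (op j.idx)
  rw [← spec_stEval, SysIdx.hom, SysIdx.imm, SysIdx.finHom, ← Category.assoc, ← Category.assoc, ← Spec.map_comp,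
    ← Spec.map_comp]
  rfl

theorem SysIdx.incl_hom {k : SysIdx P gp} (m : j ≤ k) :
    Spec.map (CommRingCat.ofHom (Subring.inclusion m.2)) ≫ j.hom = k.hom ≫ (P.V.map (homOfLE m.1).op).left := by
  haveI := P.affine (op j.idx)
  haveI := P.affine (op k.idx)
  rw [SysIdx.hom, SysIdx.imm, SysIdx.finHom, SysIdx.hom, SysIdx.imm, SysIdx.finHom, Category.assoc, Category.assoc,
    ← Scheme.isoSpec_inv_naturality]
  simp only [← Category.assoc]
  refine congrArg (· ≫ _) ?_
  refine (congrArg (· ≫ _) (Spec.map_comp _ _).symm).trans ((Spec.map_comp _ _).symm.trans ?_)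
  refine Eq.trans ?_ ((congrArg (· ≫ _) (Spec.map_comp _ _).symm).trans (Spec.map_comp _ _).symm).symm
  refine congrArg Spec.map (CommRingCat.hom_ext (RingHom.ext fun c => Subtype.ext ?_))
  exact (stEval_stMap P gp m.1 c).symm

/-- the pieces as rings -/
noncomputable def ringDiag : SysIdx P gp ⥤ CommRingCat.{u} where
  obj j := CommRingCat.of j.piece
  map {j k} h := CommRingCat.ofHom (Subring.inclusion (leOfHom h).2)

/-- the inclusions -/
noncomputable def ringCocone : Cocone (ringDiag (P := P) (gp := gp)) :=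
  Cocone.mk (CommRingCat.of Ω) { app := fun j => CommRingCat.ofHom j.piece.subtype }

/-- every element lies in a piece -/
def Exhausts (P : EtPres π) (gp : Spec (CommRingCat.of Ω) ⟶ T) : Prop := ∀ x : Ω, ∃ j : SysIdx P gp, x ∈ j.piece

theorem nonempty_isColimit (h : Exhausts P gp) : Nonempty (IsColimit (ringCocone (P := P) (gp := gp))) := by
  haveI : IsFiltered (SysIdx P gp) := isFiltered_of_directed_le_nonempty _
  haveI : HasColimit (ringDiag (P := P) (gp := gp)) := inferInstance
  haveI : PreservesColimitsOfShape (SysIdx P gp) (forget CommRingCat.{u}) := inferInstance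
  haveI : ReflectsColimit (ringDiag (P := P) (gp := gp)) (forget CommRingCat.{u}) :=
    reflectsColimit_of_reflectsIsomorphisms (ringDiag (P := P) (gp := gp)) _
  refine ⟨isColimitOfReflects (forget CommRingCat.{u}) ?_⟩
  refine Types.FilteredColimit.isColimitOf _ _ (fun x => ?_) fun i j x y hxy => ?_
  · obtain ⟨j, hj⟩ := h x
    exact ⟨j, ⟨x, hj⟩, rfl⟩
  · obtain ⟨k, hik, hjk⟩ := exists_ge_ge i j
    exact ⟨k, homOfLE hik, homOfLE hjk, Subtype.ext hxy⟩

/-- the transition between pieces over the limit -/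
noncomputable def SysIdx.trans {k : SysIdx P gp} (m : j ≤ k) :
    pullback k.hom (P.leg (op k.idx)) ⟶ pullback j.hom (P.leg (op j.idx)) :=
  pullback.map _ _ _ _ (Spec.map (CommRingCat.ofHom (Subring.inclusion m.2))) (𝟙 T)
    (P.V.map (homOfLE m.1).op).left (j.incl_hom m).symm ((P.leg_map _).trans (Category.id_comp _).symm)

theorem SysIdx.trans_fst {k : SysIdx P gp} (m : j ≤ k) :
    j.trans m ≫ pullback.fst _ _ = pullback.fst _ _ ≫ Spec.map (CommRingCat.ofHom (Subring.inclusion m.2)) :=
  pullback.lift_fst _ _ _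

theorem SysIdx.trans_snd {k : SysIdx P gp} (m : j ≤ k) : j.trans m ≫ pullback.snd _ _ = pullback.snd _ _ :=
  (pullback.lift_snd _ _ _).trans (Category.comp_id _)

variable (P gp)

/-- the pieces over the limit -/
noncomputable def overStages : (SysIdx P gp)ᵒᵖ ⥤ Over T where
  obj a := Over.mk (pullback.snd a.unop.hom (P.leg (op a.unop.idx)))
  map {a b} m := Over.homMk (b.unop.trans (leOfHom m.unop)) (b.unop.trans_snd _)
  map_id a := by
    ext : 1
    show a.unop.trans (le_refl a.unop) = 𝟙 _
    apply pullback.hom_ext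
    · rw [SysIdx.trans_fst, Category.id_comp]
      refine (congrArg (_ ≫ ·) (Spec.map_id _)).trans (Category.comp_id _)
    · rw [SysIdx.trans_snd, Category.id_comp]
  map_comp {a b c} m n := by
    ext : 1
    show c.unop.trans (le_trans (leOfHom n.unop) (leOfHom m.unop)) = b.unop.trans (leOfHom m.unop) ≫ c.unop.trans (leOfHom n.unop)
    apply pullback.hom_ext
    · rw [SysIdx.trans_fst, Category.assoc, SysIdx.trans_fst, ← Category.assoc, SysIdx.trans_fst, Category.assoc,
        ← Spec.map_comp]
      rfl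
    · rw [SysIdx.trans_snd, Category.assoc, SysIdx.trans_snd, SysIdx.trans_snd]

/-- the point over the pieces -/
noncomputable def overCone : Cone (overStages P gp) :=
  Cone.mk (Over.mk gp)
    { app := fun a => Over.homMk (pullback.lift (Spec.map (CommRingCat.ofHom a.unop.piece.subtype)) gp
          a.unop.subtype_hom) (pullback.lift_snd _ _ _)
      naturality := fun a b m => by
        ext : 1
        show 𝟙 _ ≫ pullback.lift _ _ b.unop.subtype_hom =
          pullback.lift _ _ a.unop.subtype_hom ≫ b.unop.trans (leOfHom m.unop)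
        apply pullback.hom_ext
        · rw [Category.id_comp, pullback.lift_fst, Category.assoc, SysIdx.trans_fst, pullback.lift_fst_assoc,
            ← Spec.map_comp]
          rfl
        · rw [Category.id_comp, pullback.lift_snd, Category.assoc, SysIdx.trans_snd, pullback.lift_snd] }

theorem nonempty_isLimit_overCone (h : Exhausts P gp) : Nonempty (IsLimit (overCone P gp)) := by
  obtain ⟨hc⟩ := nonempty_isColimit h
  obtain ⟨hP⟩ := P.isLimit
  have hl : IsLimit (Scheme.Spec.mapCone (ringCocone (P := P) (gp := gp)).op) := isLimitOfPreserves Scheme.Spec hc.op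
  let pc : ∀ s : Cone (overStages P gp), Cone (ringDiag.op ⋙ Scheme.Spec) := fun s =>
    Cone.mk s.pt.left
      { app := fun a => (s.π.app a).left ≫ pullback.fst _ _
        naturality := fun a b m => by
          have e := congrArg (fun r => CommaMorphism.left r ≫ pullback.fst _ _) (s.w m)
          show 𝟙 _ ≫ _ = ((s.π.app a).left ≫ pullback.fst _ _) ≫ Spec.map (ringDiag.map m.unop)
          rw [Category.id_comp]
          refine e.symm.trans ?_
          show ((s.π.app a).left ≫ b.unop.trans (leOfHom m.unop)) ≫ _ = _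
          exact (Category.assoc _ _ _).trans ((congrArg ((s.π.app a).left ≫ ·) (SysIdx.trans_fst _ _)).trans
            (Category.assoc _ _ _).symm) }
  have hw : ∀ s, hl.lift (pc s) ≫ gp = s.pt.hom := fun s => hP.hom_ext fun a => by
    let j := SysIdx.base P gp a.unop
    have e : hl.lift (pc s) ≫ Spec.map (CommRingCat.ofHom j.piece.subtype) =
        (s.π.app (op j)).left ≫ pullback.fst j.hom (P.leg (op j.idx)) := hl.fac (pc s) (op j)
    have ew : (s.π.app (op j)).left ≫ pullback.snd j.hom (P.leg (op j.idx)) = s.pt.hom := Over.w (s.π.app (op j))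
    show (hl.lift (pc s) ≫ gp) ≫ P.leg (op j.idx) = s.pt.hom ≫ P.leg (op j.idx)
    refine (Category.assoc _ _ _).trans ((congrArg (hl.lift (pc s) ≫ ·) j.subtype_hom.symm).trans ?_)
    refine (Category.assoc _ _ _).symm.trans ((congrArg (· ≫ j.hom) e).trans ?_)
    exact (Category.assoc _ _ _).trans ((congrArg ((s.π.app (op j)).left ≫ ·) pullback.condition).trans
      ((Category.assoc _ _ _).symm.trans (congrArg (· ≫ P.leg (op j.idx)) ew)))
  refine ⟨{ lift := fun s => Over.homMk (hl.lift (pc s)) (hw s), fac := fun s a => ?_, uniq := fun s r hr => ?_ }⟩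
  · ext : 1
    apply pullback.hom_ext
    · show (hl.lift (pc s) ≫ pullback.lift _ _ _) ≫ _ = _
      rw [Category.assoc, pullback.lift_fst]
      exact hl.fac (pc s) a
    · show (hl.lift (pc s) ≫ pullback.lift _ _ _) ≫ _ = _
      rw [Category.assoc, pullback.lift_snd, hw]
      exact (Over.w (s.π.app a)).symm
  · ext : 1
    refine hl.uniq (pc s) r.left fun a => ?_
    have e := congrArg (fun k => CommaMorphism.left k ≫ pullback.fst _ _) (hr a)
    refine Eq.trans ?_ e
    show r.left ≫ Spec.map (CommRingCat.ofHom a.unop.piece.subtype) = (r.left ≫ pullback.lift _ _ _) ≫ _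
    rw [Category.assoc, pullback.lift_fst]

theorem exists_stage_integral [IsAffine T] {x : Ω} (hx : (ptEval gp).IsIntegralElem x) (a : P.ι) :
    ∃ b, a ≤ b ∧ (stEval P gp b).IsIntegralElem x := by
  obtain ⟨p, hp, hpx⟩ := hx
  obtain ⟨hP⟩ := P.isLimit
  haveI : IsFiltered P.ι := isFiltered_of_directed_le_nonempty _
  haveI : ∀ i, IsAffine ((P.V ⋙ Scheme.Etale.forget S ⋙ Over.forget S).obj i) := fun i => P.affine i
  have hl : ∀ q : Polynomial Γ(T, ⊤), ∃ b, a ≤ b ∧ q ∈ Polynomial.lifts (P.leg (op b)).appTop.hom := by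
    have hmono : ∀ {b c : P.ι}, b ≤ c → ∀ {q : Polynomial Γ(T, ⊤)},
        q ∈ Polynomial.lifts (P.leg (op b)).appTop.hom → q ∈ Polynomial.lifts (P.leg (op c)).appTop.hom := by
      intro b c m q hq
      obtain ⟨r, rfl⟩ := (Polynomial.mem_lifts _).1 hq
      refine (Polynomial.mem_lifts _).2 ⟨r.map (stMap P m), ?_⟩
      rw [Polynomial.map_map]
      refine congrArg (fun f => r.map f) (RingHom.ext fun z => ?_)
      show (P.leg (op c)).appTop ((P.V.map (homOfLE m).op).left.appTop z) = (P.leg (op b)).appTop z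
      rw [← P.leg_map (homOfLE m).op, Scheme.Hom.comp_appTop]
      rfl
    intro q
    induction q using Polynomial.induction_on' with
    | add f g hf hg =>
      obtain ⟨b, hab, hb⟩ := hf
      obtain ⟨c, hac, hc⟩ := hg
      obtain ⟨d, hbd, hcd⟩ := exists_ge_ge b c
      exact ⟨d, hab.trans hbd, add_mem (hmono hbd hb) (hmono hcd hc)⟩
    | monomial n r =>
      obtain ⟨i, z, hz⟩ := exists_appTop_π_eq_of_isAffine_of_isLimit _ _ hP r
      obtain ⟨d, had, hid⟩ := exists_ge_ge a i.unop
      refine ⟨d, had, hmono hid ?_⟩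
      refine (Polynomial.mem_lifts _).2 ⟨Polynomial.monomial n z, ?_⟩
      rw [Polynomial.map_monomial]
      exact congrArg (Polynomial.monomial n) hz
  obtain ⟨b, hab, hb⟩ := hl p
  obtain ⟨q, hq, -, hqm⟩ := Polynomial.lifts_and_natDegree_eq_and_monic hb hp
  refine ⟨b, hab, q, hqm, ?_⟩
  rw [← hq, Polynomial.eval₂_map] at hpx
  exact hpx

/-- the exhaustion for a point algebraic over the residue field -/
theorem exhausts [IsAffine T] (h : ∀ x : Ω, ∃ c, ptEval gp c ≠ 0 ∧ (ptEval gp).IsIntegralElem (ptEval gp c * x)) :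
    Exhausts P gp := by
  intro x
  obtain ⟨c, hc, hx⟩ := h x
  obtain ⟨hP⟩ := P.isLimit
  haveI : IsFiltered P.ι := isFiltered_of_directed_le_nonempty _
  haveI : ∀ i, IsAffine ((P.V ⋙ Scheme.Etale.forget S ⋙ Over.forget S).obj i) := fun i => P.affine i
  obtain ⟨i, z, hz⟩ := exists_appTop_π_eq_of_isAffine_of_isLimit _ _ hP c
  obtain ⟨b, hib, hb⟩ := exists_stage_integral P gp hx i.unop
  have hz' : stEval P gp b (stMap P hib z) = ptEval gp c :=
    (stEval_stMap P gp hib z).trans (congrArg (ptEval gp) hz)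
  exact ⟨⟨b, stMap P hib z, hz' ▸ hc, {x}, fun y hy => by
    rw [Finset.mem_singleton.1 hy, hz']; exact hb⟩, SysIdx.gens_mem _ (Finset.mem_singleton_self x)⟩

end Groth.Agent.AcycBase
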